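import Groth.Agent.DualSch.Vanish

/-!
# Biduality for dualizing complexes on schemes
-/

set_option linter.style.haveILetI false
set_option backward.isDefEq.respectTransparency false
set_option maxHeartbeats 1600000

universe u

open CategoryTheory CategoryTheory.Limits AlgebraicGeometry CategoryTheory.Pretriangulated

attribute [local instance] HasDerivedCategory.standard

noncomputable section

namespace Groth.Agent.DualSch

open Groth.Agent.KFlatLib

variable {X : Scheme.{u}} (BK BK' : CochainComplex X.Modules ℤ)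

/-- A K-flat resolution of `iHom(K, K')`. -/
abbrev endR : CochainComplex X.Modules ℤ := (kRes X).obj ((iHom BK).obj BK')

/-- The evaluation `R ⊗ K ⟶ K`. -/
abbrev endC : (DCoh.tensorCx.obj (endR BK BK')).obj BK ⟶ BK' :=
  ((iHomAdj BK).homEquiv _ _).symm ((flatCover X).ψ.app ((iHom BK).obj BK'))

lemma quasiIso_endC : QuasiIso ((iHomAdj BK).homEquiv _ _ (endC BK BK')) := by
  rw [show (iHomAdj BK).homEquiv _ _ (endC BK BK') = (flatCover X).ψ.app _ from Equiv.apply_symm_apply _ _]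
  exact (flatCover X).quasiIso_ψ _

/-- The biduality map. -/
abbrev bidualMap (P : CochainComplex X.Modules ℤ) :=
  coevalMap (endR BK BK') BK BK' (endC BK BK') P

/-- The biduality map is invertible on `H^i` over the open. -/
abbrev BidualIso {U : Scheme.{u}} (j : U ⟶ X) [IsOpenImmersion j] (i : ℤ)
    (P : CochainComplex X.Modules ℤ) : Prop :=
  IsIso (HomologicalComplex.homologyMap ((rCx j).map (bidualMap BK BK' P)) i)

/-- Restriction in two steps, on representatives. -/
def rhoCxIso {U V : Scheme.{u}} (i : V ⟶ U) [IsOpenImmersion i] (j : U ⟶ X) [IsOpenImmersion j]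
    (k : V ⟶ X) [IsOpenImmersion k] (h : i ≫ j = k) (C : CochainComplex X.Modules ℤ) :
    DerivedCategory.Q.obj ((rCx k).obj C) ≅ DerivedCategory.Q.obj ((rCx i).obj ((rCx j).obj C)) :=
  ((rhoQ k).app C).symm ≪≫ (rhoComp i j k h _).symm ≪≫ (rho i).mapIso ((rhoQ j).app C) ≪≫
    (rhoQ i).app _

/-- `R ⊗ P = P` once `RHom(K, K) = O`. -/
def endTensorIso (BK : CochainComplex X.Modules ℤ)
    (eu : DCoh.toD X (unitCx X) ≅ DerivedCategory.Q.obj ((iHom BK).obj BK))
    (P : CochainComplex X.Modules ℤ) :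
    DerivedCategory.Q.obj ((DCoh.tensorCx.obj (endR BK BK)).obj P) ≅ DerivedCategory.Q.obj P :=
  haveI := hasLTensorCx P
  (ltensorCxIso P (isKFlat_kRes _)).symm ≪≫
    (DCoh.LTensorCx P).mapIso ((resQIso X).app _ ≪≫ eu.symm) ≪≫ unitLTensorIso P

/-- `O[n]` in one degree. -/
abbrev unitShiftCx (X : Scheme.{u}) (n : ℤ) : CochainComplex X.Modules ℤ :=
  (HomologicalComplex.single X.Modules (ComplexShape.up ℤ) n).obj (Coh.structureModule X)

lemma isKFlat_unitShiftCx (X : Scheme.{u}) (n : ℤ) : DCoh.IsKFlat (unitShiftCx X n) :=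
  isKFlat_of_vanishesOutside (a := n) (b := n)
    (fun i hi => HomologicalComplex.isZero_single_obj_X _ _ _ _ (by omega))
    (fun i => isFlat_single n (IsFlat.of_iso (coproductUniqueIso (fun _ : Fin 1 => Coh.structureModule X))
      (isFlat_freeMod 1)) i)

/-- Where `RHom(K, K')` is a shift of `O`, tensoring with it shifts cohomology. -/
lemma isZero_homology_endTensor {U : Scheme.{u}} (j : U ⟶ X) [IsOpenImmersion j] (n : ℤ)
    (eR : (rho j).obj (DerivedCategory.Q.obj ((iHom BK).obj BK')) ≅ DerivedCategory.Q.obj (unitShiftCx U n))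
    (C : CochainComplex X.Modules ℤ) (k : ℤ) (h : IsZero (((rCx j).obj C).homology (k - n))) :
    IsZero (((rCx j).obj ((DCoh.tensorCx.obj (endR BK BK')).obj C)).homology k) := by
  haveI := hasLTensorCx C
  haveI := hasLTensorCx ((rCx j).obj C)
  obtain ⟨cR⟩ := nonempty_rho_LTensorCx j C
  let e : DerivedCategory.Q.obj ((rCx j).obj ((DCoh.tensorCx.obj (endR BK BK')).obj C)) ≅
      DerivedCategory.Q.obj (((rCx j).obj C)⟦-n⟧) :=
    ((rhoQ j).app _).symm ≪≫ (rho j).mapIso (ltensorCxIso C (isKFlat_kRes _)).symm ≪≫ cR.app _ ≪≫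
      (DCoh.LTensorCx ((rCx j).obj C)).mapIso ((rho j).mapIso ((resQIso X).app _) ≪≫ eR) ≪≫
      ltensorCxIso ((rCx j).obj C) (isKFlat_unitShiftCx U n) ≪≫
      DerivedCategory.Q.mapIso ((braidCx ((rCx j).obj C) (unitShiftCx U n)).symm ≪≫
        (Inner.tensorUnitShiftIso (DCoh.tensorBi (X := U)) (Coh.structureModule U) (tensorStructureIso U) n).app _)
  refine isZero_homology_of_Q_iso e k (h.of_iso ?_)
  exact ((HomologicalComplex.homologyFunctor U.Modules (ComplexShape.up ℤ) 0).shiftIso (-n) k (k - n)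
    (by omega)).app _

variable [BK.IsKInjective] [∀ n, Injective (BK.X n)] [BK'.IsKInjective] [∀ n, Injective (BK'.X n)]

lemma bidualIso_iff_of_quasiIso {U : Scheme.{u}} (j : U ⟶ X) [IsOpenImmersion j] (i : ℤ)
    {A B : CochainComplex X.Modules ℤ} (g : A ⟶ B) (hg : QuasiIso ((rCx j).map g)) :
    BidualIso BK BK' j i A ↔ BidualIso BK BK' j i B := by
  haveI := hg
  haveI := quasiIso_rCx_tensor j (isKFlat_kRes ((iHom BK).obj BK')) g
  haveI := quasiIso_rCx_iHomMap j g BK
  haveI := quasiIso_rCx_iHomMap j ((iHomMap g).app BK) BK'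
  have w := congrArg (fun t => HomologicalComplex.homologyMap ((rCx j).map t) i)
    (coevalMap_naturality (endR BK BK') BK BK' (endC BK BK') g)
  simp only [Functor.map_comp, HomologicalComplex.homologyMap_comp] at w
  haveI : IsIso (HomologicalComplex.homologyMap ((rCx j).map ((DCoh.tensorCx.obj (endR BK BK')).map g)) i) :=
    (quasiIsoAt_iff_isIso_homologyMap _ i).1 inferInstance
  haveI : IsIso (HomologicalComplex.homologyMap ((rCx j).map ((iHomMap ((iHomMap g).app BK)).app BK')) i) :=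
    (quasiIsoAt_iff_isIso_homologyMap _ i).1 inferInstance
  refine ⟨fun h => ?_, fun h => ?_⟩
  · haveI : IsIso (HomologicalComplex.homologyMap ((rCx j).map ((DCoh.tensorCx.obj (endR BK BK')).map g)) i ≫
        HomologicalComplex.homologyMap ((rCx j).map (bidualMap BK BK' B)) i) := by
      rw [w]; infer_instance
    exact IsIso.of_isIso_comp_left
      (HomologicalComplex.homologyMap ((rCx j).map ((DCoh.tensorCx.obj (endR BK BK')).map g)) i) _
  · haveI : IsIso (HomologicalComplex.homologyMap ((rCx j).map (bidualMap BK BK' A)) i ≫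
        HomologicalComplex.homologyMap ((rCx j).map ((iHomMap ((iHomMap g).app BK)).app BK')) i) := by
      rw [← w]; infer_instance
    exact IsIso.of_isIso_comp_right _
      (HomologicalComplex.homologyMap ((rCx j).map ((iHomMap ((iHomMap g).app BK)).app BK')) i)

/-- The map of sequences given by biduality. -/
theorem exists_bidualHom (S : ShortComplex (CochainComplex X.Modules ℤ))
    (hS : ∀ n, Nonempty (S.map (HomologicalComplex.eval _ _ n)).Splitting)
    (hF : ∀ i, FlatMod.IsFlat (S.X₃.X i)) {U : Scheme.{u}} (j : U ⟶ X) [IsOpenImmersion j] :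
    ∃ (S₂ : ShortComplex (CochainComplex U.Modules ℤ))
      (φ : (S.map (DCoh.tensorBi.map₂CochainComplex.obj (endR BK BK'))).map (rCx j) ⟶ S₂),
      ((S.map (DCoh.tensorBi.map₂CochainComplex.obj (endR BK BK'))).map (rCx j)).ShortExact ∧ S₂.ShortExact ∧
      S₂.X₂ = (rCx j).obj ((iHom ((iHom S.X₂).obj BK)).obj BK') ∧
      (∀ i, IsIso (HomologicalComplex.homologyMap φ.τ₁ i) ↔ BidualIso BK BK' j i S.X₁) ∧
      (∀ i, IsIso (HomologicalComplex.homologyMap φ.τ₃ i) ↔ BidualIso BK BK' j i S.X₃) ∧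
      (QuasiIso φ.τ₂ ↔ QuasiIso ((rCx j).map (bidualMap BK BK' S.X₂))) ∧
      (QuasiIso φ.τ₁ ↔ QuasiIso ((rCx j).map (bidualMap BK BK' S.X₁))) ∧
      (QuasiIso φ.τ₃ ↔ QuasiIso ((rCx j).map (bidualMap BK BK' S.X₃))) := by
  obtain ⟨w₁, hH⟩ := Inner.innerHom_shortExact (DCoh.tensorBi (X := X)) S hS BK
  let T := ShortComplex.mk ((iHomMap S.g).app BK) ((iHomMap S.f).app BK) w₁
  haveI : ∀ n, Injective (T.X₁.X n) := fun n =>
    Inner.injective_innerHom_X (DCoh.tensorBi (X := X)) S.X₃ (fun q => flatObj_of_isFlat (hF q)) BK n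
  obtain ⟨w₂, hJ⟩ := Inner.innerHom_shortExact (DCoh.tensorBi (X := X)) T
    (fun n => haveI : Injective ((T.map (HomologicalComplex.eval X.Modules (ComplexShape.up ℤ) n)).X₁) :=
        inferInstanceAs (Injective (T.X₁.X n))
      ⟨splittingOfInjective (hH.map_of_exact (HomologicalComplex.eval _ _ n))⟩) BK'
  let T₁ := S.map (DCoh.tensorBi.map₂CochainComplex.obj (endR BK BK'))
  have hS' : S.ShortExact := HomologicalComplex.shortExact_of_degreewise_shortExact S
    fun n => (hS n).some.shortExact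
  let T₂ := ShortComplex.mk ((iHomMap T.g).app BK') ((iHomMap T.f).app BK') w₂
  let φ : T₁.map (rCx j) ⟶ T₂.map (rCx j) :=
    { τ₁ := (rCx j).map (bidualMap BK BK' S.X₁)
      τ₂ := (rCx j).map (bidualMap BK BK' S.X₂)
      τ₃ := (rCx j).map (bidualMap BK BK' S.X₃)
      comm₁₂ := by
        refine ((rCx j).map_comp _ _).symm.trans (Eq.trans ?_ ((rCx j).map_comp _ _))
        exact congrArg _ (coevalMap_naturality (endR BK BK') BK BK' (endC BK BK') S.f).symm
      comm₂₃ := by
        refine ((rCx j).map_comp _ _).symm.trans (Eq.trans ?_ ((rCx j).map_comp _ _))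
        exact congrArg _ (coevalMap_naturality (endR BK BK') BK BK' (endC BK BK') S.g).symm }
  exact ⟨T₂.map (rCx j), φ, (shortExact_tensorCx_of_flat _ (isFlat_kRes _) hS').map_of_exact _,
    hJ.map_of_exact _, rfl, fun i => Iff.rfl, fun i => Iff.rfl, Iff.rfl, Iff.rfl, Iff.rfl⟩

/-- Biduality along a cone. -/
theorem bidualIso_iff_cone {U : Scheme.{u}} (j : U ⟶ X) [IsOpenImmersion j]
    {A P : CochainComplex X.Modules ℤ} (g : A ⟶ P) (hA : ∀ q, FlatMod.IsFlat (A.X q)) (i : ℤ)
    (z : ∀ k, (k = i - 1 ∨ k = i) →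
      IsZero (((rCx j).obj ((DCoh.tensorCx.obj (endR BK BK')).obj (CochainComplex.mappingCone g))).homology k) ∧
      IsZero (((rCx j).obj ((iHom ((iHom (CochainComplex.mappingCone g)).obj BK)).obj BK')).homology k)) :
    BidualIso BK BK' j i P ↔ BidualIso BK BK' j (i - 1) (A⟦(1 : ℤ)⟧) := by
  obtain ⟨S₂, φ, h₁, h₂, hX, e₁, e₃, -, -, -⟩ :=
    exists_bidualHom BK BK' (coneSeq g) (fun n => ⟨coneSeqSplitting g n⟩) (fun q => hA (q + 1)) j
  refine (e₁ i).symm.trans ((isIso_homologyMap_τ₁_iff φ h₁ h₂ i ?_ ?_ ?_ ?_).trans (e₃ (i - 1)))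
  · exact (z _ (Or.inl rfl)).1
  · exact (z _ (Or.inr rfl)).1
  · rw [hX]; exact (z _ (Or.inl rfl)).2
  · rw [hX]; exact (z _ (Or.inr rfl)).2

/-- Biduality at extensions by zero of bounded complexes of free modules. -/
theorem quasiIso_bidual_lsh {W : Scheme.{u}} (j : W ⟶ X) [IsOpenImmersion j] (lo : ℤ) (m : ℕ)
    (P : CochainComplex W.Modules ℤ) (hz : ∀ k : ℤ, (k < lo ∨ lo + m ≤ k) → IsZero (P.X k))
    (hf : ∀ k, ∃ n, Nonempty (P.X k ≅ FlatMod.freeMod W n)) :
    QuasiIso ((rCx j).map (bidualMap BK BK' ((lshCx j).obj P))) := by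
  let Φ : ObjectProperty (CochainComplex X.Modules ℤ) := fun C => QuasiIso ((rCx j).map (bidualMap BK BK' C))
  have hq : ∀ ⦃A B : CochainComplex X.Modules ℤ⦄ (g : A ⟶ B), QuasiIso ((rCx j).map g) → (Φ A ↔ Φ B) :=
    fun A B g hg => by
      change QuasiIso _ ↔ QuasiIso _
      rw [quasiIso_iff, quasiIso_iff]
      refine forall_congr' fun i => ?_
      rw [quasiIsoAt_iff_isIso_homologyMap, quasiIsoAt_iff_isIso_homologyMap]
      exact bidualIso_iff_of_quasiIso BK BK' j i g hg
  haveI hΦ : Φ.IsClosedUnderIsomorphisms := ⟨fun {A B} e h =>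
    (hq e.hom (haveI : IsIso ((rCx j).map e.hom) := inferInstance; inferInstance)).1 h⟩
  let Ψ : ObjectProperty (CochainComplex W.Modules ℤ) := fun C => Φ ((lshCx j).obj C)
  haveI : Ψ.IsClosedUnderIsomorphisms := ⟨fun e h => Φ.prop_of_iso ((lshCx j).mapIso e) h⟩
  refine cx_devissage Ψ (fun C hC => ?_) (fun S hS hF h₁ h₃ => ?_) (fun n => ?_) lo m P hz hf
  · have hP : IsZero ((lshCx j).obj C) := Functor.map_isZero _ hC
    exact quasiIso_of_isZero _ ((rCx j).map_isZero ((DCoh.tensorCx.obj (endR BK BK')).map_isZero hP))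
      ((rCx j).map_isZero (isZero_iHom (isZero_iHom hP BK) BK'))
  · obtain ⟨S₂, φ, hφ₁, hφ₂, -, -, -, q₂, q₁, q₃⟩ :=
      exists_bidualHom BK BK' (S.map (lshCx j)) (fun n => ⟨((hS n).some.map (lsh j))⟩)
        (fun i => isFlat_lsh j (hF i)) j
    exact q₂.1 (quasiIso_τ₂' φ hφ₁ hφ₂ (q₁.2 h₁) (q₃.2 h₃))
  · let e₁ : (rCx j).obj ((HomologicalComplex.single X.Modules (ComplexShape.up ℤ) n).obj
        (Coh.structureModule X)) ≅
        (HomologicalComplex.single W.Modules (ComplexShape.up ℤ) n).obj (Coh.structureModule W) :=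
      (HomologicalComplex.singleMapHomologicalComplex (Scheme.Modules.restrictFunctor j) _ n).app _ ≪≫
        (HomologicalComplex.single _ _ n).mapIso (restrictStructureIso j)
    refine Φ.prop_of_iso ((lshCx j).mapIso e₁)
      ((hq ((lshCxAdj j).counit.app _)
        (haveI := isIso_rCx_map_lshCx_counit j ((HomologicalComplex.single X.Modules (ComplexShape.up ℤ) n).obj
          (Coh.structureModule X)); inferInstance)).2 ?_)
    haveI := quasiIso_coevalMap_single (endR BK BK') BK BK' (endC BK BK') (quasiIso_endC BK BK') n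
    change QuasiIso ((rCx j).map (bidualMap BK BK'
      ((HomologicalComplex.single X.Modules (ComplexShape.up ℤ) n).obj (Coh.structureModule X))))
    infer_instance

variable [∀ (R : CommRingCat.{u}), PreservesFiniteLimits (tilde.functor R)]

/-- A bounded injective model of a tilde of finite injective dimension. -/
lemma exists_injModel {A : Type u} [CommRing A] [IsNoetherianRing A] {ω : Dual.D A}
    (hω : DRing.HasFiniteInjDim A ω) (B : CochainComplex (Spec (CommRingCat.of A)).Modules ℤ)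
    (eB : DerivedCategory.Q.obj B ≅ (DCoh.tildeD (CommRingCat.of A)).obj ω) :
    ∃ a b : ℤ, Nonempty (InjModel B a b) := by
  obtain ⟨a, b, J₀, hvan, hinj, ⟨eJ⟩⟩ := hω
  exact ⟨a, b, ⟨{
    J := (tildeCxF A).obj J₀
    e := eB ≪≫ (DCoh.tildeD (CommRingCat.of A)).mapIso eJ.symm ≪≫
      ((tilde.functor (CommRingCat.of A)).mapDerivedCategoryFactors).app J₀
    inj := injective_tildeCx J₀ hinj
    ge := (CochainComplex.isStrictlyGE_iff _ _).2 fun i hi =>
      Functor.map_isZero (tilde.functor (CommRingCat.of A)) (hvan i (Or.inl hi))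
    le := (CochainComplex.isStrictlyLE_iff _ _).2 fun i hi =>
      Functor.map_isZero (tilde.functor (CommRingCat.of A)) (hvan i (Or.inr hi)) }⟩⟩

variable [∀ (U : Scheme.{u}) (j : U ⟶ X) [IsOpenImmersion j], PreservesFiniteLimits (Scheme.Modules.restrictFunctor j)]

/-- The truncation used for the first reduction. -/
lemma exists_trunc_approx [IsLocallyNoetherian X] (P : CochainComplex X.Modules ℤ)
    (hP : DCoh.IsCohD (DerivedCategory.Q.obj P)) (n : ℤ) :
    ∃ (A : CochainComplex X.Modules ℤ) (g : A ⟶ P), (∀ q, FlatMod.IsFlat (A.X q)) ∧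
      (∀ l, l ≤ n → IsIso ((DerivedCategory.homologyFunctor X.Modules l).map (DerivedCategory.Q.map g))) ∧
      ∀ m, LocPC m ((DerivedCategory.Q.obj A)⟦(1 : ℤ)⟧) := by
  let A := (kRes X).obj (P.truncLE n)
  let ψ : A ⟶ P.truncLE n := (flatCover X).ψ.app _
  haveI : QuasiIso ψ := (flatCover X).quasiIso_ψ _
  haveI := isIso_Q_map ψ inferInstance
  let g : A ⟶ P := ψ ≫ P.ιTruncLE n
  have hg : ∀ l, l ≤ n → IsIso ((DerivedCategory.homologyFunctor X.Modules l).map (DerivedCategory.Q.map g)) :=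
    fun l hl => by
      haveI := isIso_hd_Q (P.ιTruncLE n) l (P.quasiIsoAt_ιTruncLE n l hl)
      simp only [g, Functor.map_comp]
      infer_instance
  refine ⟨A, g, isFlat_kRes _, hg, fun m => ?_⟩
  haveI : (DerivedCategory.Q.obj (P.truncLE n)).IsLE n := (DerivedCategory.isLE_Q_obj_iff _ n).2 inferInstance
  haveI hAle : (DerivedCategory.Q.obj A).IsLE n :=
    DerivedCategory.TStructure.t.isLE_of_iso (asIso (DerivedCategory.Q.map ψ)).symm n
  have hA : DCoh.IsCohD (DerivedCategory.Q.obj A) := fun l => by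
    by_cases hl : l ≤ n
    · haveI := hg l hl
      exact isCoh_of_iso (asIso ((DerivedCategory.homologyFunctor X.Modules l).map
        (DerivedCategory.Q.map g))).symm (hP l)
    · exact isCoh_of_isZero (DerivedCategory.isZero_of_isLE _ n l (by omega))
  have hA1 := isCohD_shift hA 1
  haveI : ((DerivedCategory.Q.obj A)⟦(1 : ℤ)⟧).IsLE (n - 1) :=
    DerivedCategory.TStructure.t.isLE_shift _ n 1 (n - 1) (by omega)
  exact locPC_of_coh (isCohD_isQCohD hA1) (fun i _ => hA1 i) (n - 1)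
    fun i hi => DerivedCategory.isZero_of_isLE _ (n - 1) i hi

/-- Local models for a pair of complexes and their `RHom`. -/
def HasLocalModels : Prop :=
  ∀ x : X, ∃ (U : Scheme.{u}) (j : U ⟶ X) (_ : IsOpenImmersion j), x ∈ Set.range j.base ∧
    ∃ (a b a' b' n : ℤ), Nonempty (InjModel ((rCx j).obj BK) a b) ∧
      Nonempty (InjModel ((rCx j).obj BK') a' b') ∧
      Nonempty ((rho j).obj (DerivedCategory.Q.obj ((iHom BK).obj BK')) ≅
        DerivedCategory.Q.obj (unitShiftCx U n))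

/-- The biduality map is a quasi-isomorphism on coherent cohomology. -/
theorem quasiIso_bidualMap_of_models [IsLocallyNoetherian X] (hloc : HasLocalModels BK BK')
    (P : CochainComplex X.Modules ℤ) (hP : DCoh.IsCohD (DerivedCategory.Q.obj P)) :
    QuasiIso (bidualMap BK BK' P) := by
  refine ⟨fun i => ?_⟩
  rw [quasiIsoAt_iff_isIso_homologyMap]
  refine isIso_of_stalk _ fun x => ?_
  obtain ⟨U₀, j₀, _, ⟨y, hy⟩, a, b, a', b', r, ⟨S₀⟩, ⟨S₀'⟩, ⟨eR₀⟩⟩ := hloc x
  let n : ℤ := i + 1 + (b - a').natAbs + r.natAbs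
  let m : ℤ := i - 2 - (b' - a).natAbs - r.natAbs
  obtain ⟨A, g, hA, hg, hpc⟩ := exists_trunc_approx P hP n
  obtain ⟨V, jV, _, ⟨v, hv⟩, E, α, hE, hα⟩ := (hpc m).restrict j₀ y
  obtain ⟨W, hvW, hW⟩ := exists_free_nhd_sp hE v
  let iW := W.ι ≫ jV
  let j := iW ≫ j₀
  have hx : x ∈ Set.range j.base := ⟨⟨v, hvW⟩, by
    simp only [j, iW, Scheme.Hom.comp_apply]
    exact (congrArg j₀ hv).trans hy⟩
  let S := (S₀.restrict iW).of_rho (rhoCxIso iW j₀ j rfl BK)
  let S' := (S₀'.restrict iW).of_rho (rhoCxIso iW j₀ j rfl BK')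
  let eR : (rho j).obj (DerivedCategory.Q.obj ((iHom BK).obj BK')) ≅
      DerivedCategory.Q.obj (unitShiftCx (W : Scheme.{u}) r) :=
    (rhoComp iW j₀ j rfl _).symm ≪≫ (rho iW).mapIso eR₀ ≪≫ (rhoQ iW).app _ ≪≫
      DerivedCategory.Q.mapIso
        ((HomologicalComplex.singleMapHomologicalComplex (Scheme.Modules.restrictFunctor iW) _ r).app _ ≪≫
          (HomologicalComplex.single _ _ r).mapIso (restrictStructureIso iW))
  have hC₁ : ∀ k, k < n → IsZero (((rCx j).obj (CochainComplex.mappingCone g)).homology k) := fun k hk => by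
    have hgl : ∀ l, l ≤ n → IsIso ((DerivedCategory.homologyFunctor (W : Scheme.{u}).Modules l).map
        ((rho j).map (DerivedCategory.Q.map g))) := fun l hl => by
      haveI := hg l hl
      exact (NatIso.isIso_map_iff
        (mapDCHomologyIso (Scheme.Modules.restrictFunctor j) l) (DerivedCategory.Q.map g)).2
        (inferInstanceAs (IsIso ((Scheme.Modules.restrictFunctor j).map
          ((DerivedCategory.homologyFunctor X.Modules l).map (DerivedCategory.Q.map g)))))
    haveI := hgl k hk.le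
    haveI := hgl (k + 1) (by omega)
    exact isZero_rCx_cone j g k inferInstance inferInstance
  let A₁ := A⟦(1 : ℤ)⟧
  obtain ⟨B₁, s, hB₁, hs⟩ := exists_kInjective_res ((rCx j).obj A₁)
  haveI := hB₁
  haveI := hs
  haveI := isIso_Q_map s hs
  let P₁ := (rCx W.ι).obj E
  let eK : (rho W.ι).obj ((rho jV).obj ((rho j₀).obj ((DerivedCategory.Q.obj A)⟦(1 : ℤ)⟧))) ≅
      DerivedCategory.Q.obj B₁ :=
    rhoComp W.ι jV iW rfl _ ≪≫ rhoComp iW j₀ j rfl _ ≪≫
      (rho j).mapIso ((DerivedCategory.Q.commShiftIso (1 : ℤ)).app A).symm ≪≫ (rhoQ j).app A₁ ≪≫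
      asIso (DerivedCategory.Q.map s)
  obtain ⟨φ₀, hφ₀⟩ := exists_Q_map (((rhoQ W.ι).app E).inv ≫ (rho W.ι).map α ≫ eK.hom)
  have hpc₀ : IsPcMap m (DerivedCategory.Q.map φ₀) :=
    hφ₀ ▸ (IsPcMap.map_exact (Scheme.Modules.restrictFunctor W.ι) hα).comp_iso _ _
  let g₂ := (lshCx j).map φ₀
  have hpc₂ : IsPcMap m ((rho j).map (DerivedCategory.Q.map g₂)) := by
    haveI : ∀ C, IsIso ((lshCxAdj j).unit.app C) := fun C =>
      haveI : ∀ q, IsIso (((lshCxAdj j).unit.app C).f q) := fun q =>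
        inferInstanceAs (IsIso ((lshAdj j).unit.app _))
      HomologicalComplex.Hom.isIso_of_components _
    have e₁ : (lshCxAdj j).unit.app P₁ ≫ (rCx j).map g₂ = φ₀ ≫ (lshCxAdj j).unit.app B₁ :=
      ((lshCxAdj j).unit.naturality φ₀).symm
    have e₂ : (rho j).map (DerivedCategory.Q.map g₂) ≫ (rhoQ j).hom.app _ =
        (rhoQ j).hom.app _ ≫ DerivedCategory.Q.map ((rCx j).map g₂) := (rhoQ j).hom.naturality g₂
    have e₃ : (rho j).map (DerivedCategory.Q.map g₂) =
        ((rhoQ j).hom.app _ ≫ DerivedCategory.Q.map (inv ((lshCxAdj j).unit.app P₁))) ≫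
          DerivedCategory.Q.map φ₀ ≫
          (DerivedCategory.Q.map ((lshCxAdj j).unit.app B₁) ≫ (rhoQ j).inv.app _) := by
      have e₁' : (rCx j).map g₂ =
          inv ((lshCxAdj j).unit.app P₁) ≫ φ₀ ≫ (lshCxAdj j).unit.app B₁ := by
        rw [IsIso.eq_inv_comp]; exact e₁
      rw [← cancel_mono ((rhoQ j).hom.app _), e₂, e₁', Functor.map_comp, Functor.map_comp]
      simp only [Category.assoc, Iso.inv_hom_id_app]
      erw [Category.comp_id]
    rw [e₃]
    exact hpc₀.comp_iso _ _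
  have hC₂ : ∀ k, m ≤ k → IsZero (((rCx j).obj (CochainComplex.mappingCone g₂)).homology k) := fun k hk => by
    refine isZero_rCx_cone j g₂ k ?_ ?_
    · rcases eq_or_lt_of_le hk with h | h
      · subst h; exact hpc₂.2
      · haveI := hpc₂.1 k h; infer_instance
    · haveI := hpc₂.1 (k + 1) (by omega); infer_instance
  have hP₁ : ∀ k, ∃ q, Nonempty (P₁.X k ≅ FlatMod.freeMod W q) := hW
  obtain ⟨c, d, hcd⟩ := hE.1
  have h4 : BidualIso BK BK' j (i - 1 - 1) (((lshCx j).obj P₁)⟦(1 : ℤ)⟧) := by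
    have hq1 : QuasiIso ((rCx j).map (bidualMap BK BK' ((lshCx j).obj (P₁⟦(1 : ℤ)⟧)))) :=
      quasiIso_bidual_lsh BK BK' j (c - 1) ((d + 1 - c).toNat) _
        (fun k hk => Functor.map_isZero (Scheme.Modules.restrictFunctor W.ι) (hcd (k + 1) (by omega)))
        (fun k => hP₁ (k + 1))
    refine (bidualIso_iff_of_quasiIso BK BK' j (i - 1 - 1) (((lshCx j).commShiftIso (1 : ℤ)).hom.app P₁) ?_).1
      ((quasiIsoAt_iff_isIso_homologyMap _ _).1 (hq1.quasiIsoAt _))
    haveI : IsIso ((rCx j).map (((lshCx j).commShiftIso (1 : ℤ)).hom.app P₁)) := inferInstance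
    infer_instance
  have h3 : BidualIso BK BK' j (i - 1) ((lshCx j).obj B₁) := by
    refine (bidualIso_iff_cone BK BK' j g₂ (fun q => ?_) (i - 1) (fun k hk => ⟨isZero_homology_endTensor BK BK' j r eR _ k (hC₂ (k - r) (by omega)), ?_⟩)).2 h4
    · obtain ⟨r, ⟨e⟩⟩ := hP₁ q
      exact isFlat_lsh j (IsFlat.of_iso e.symm (isFlat_freeMod r))
    · exact isZero_double_high BK BK' j S S' _ m hC₂ k (by omega)
  have h2 : BidualIso BK BK' j (i - 1) A₁ :=
    (bidualIso_iff_of_quasiIso BK BK' j (i - 1) ((lshCxAdj j).counit.app A₁)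
      (haveI := isIso_rCx_map_lshCx_counit j A₁; inferInstance)).1
      ((bidualIso_iff_of_quasiIso BK BK' j (i - 1) ((lshCx j).map s) (quasiIso_rCx_map_lshCx j s)).2 h3)
  have h1 : BidualIso BK BK' j i P :=
    (bidualIso_iff_cone BK BK' j g hA i
      (fun k hk => ⟨isZero_homology_endTensor BK BK' j r eR _ k (hC₁ (k - r) (by omega)),
        isZero_double_low BK BK' j S S' _ n hC₁ k (by omega)⟩)).2 h2
  obtain ⟨w, rfl⟩ := hx
  have hi : IsIso ((Scheme.Modules.restrictFunctor j).map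
      (HomologicalComplex.homologyMap (bidualMap BK BK' P) i)) :=
    (NatIso.isIso_map_iff (ShortComplex.homologyFunctorIso (Scheme.Modules.restrictFunctor j))
      ((HomologicalComplex.shortComplexFunctor X.Modules (ComplexShape.up ℤ) i).map (bidualMap BK BK' P))).1 h1
  have hb := ConcreteCategory.bijective_of_isIso ((DerSch.stalkFunctor W w).map
    ((Scheme.Modules.restrictFunctor j).map (HomologicalComplex.homologyMap (bidualMap BK BK' P) i)))
  exact (ConcreteCategory.isIso_iff_bijective _).2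
    ⟨injective_stalk_of_restrict j _ w hb.1, surjective_stalk_of_restrict j _ w hb.2⟩

/-- The biduality map is a quasi-isomorphism on coherent cohomology. -/
theorem quasiIso_bidualMap [IsLocallyNoetherian X]
    (hK : Dual2.IsDualizingSch X (DerivedCategory.Q.obj BK)) (P : CochainComplex X.Modules ℤ)
    (hP : DCoh.IsCohD (DerivedCategory.Q.obj P)) : QuasiIso (bidualMap BK BK P) := by
  refine quasiIso_bidualMap_of_models BK BK (fun x => ?_) P hP
  obtain ⟨eu⟩ := nonempty_unit_iso_RSheafHom_self BK hK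
  obtain ⟨R, _, j₀, _, hy, ω, hω, ⟨eω⟩⟩ := exists_dualizing_chart hK x
  haveI := hω.isNoetherianRing
  haveI : ((rCx j₀).obj BK).IsKInjective := isKInjective_rCx j₀ BK
  haveI : ∀ n, Injective (((rCx j₀).obj BK).X n) := injective_rCx j₀ BK
  obtain ⟨a, b, hS⟩ := exists_injModel (finiteInjDim_of_isDualizing hω) ((rCx j₀).obj BK)
    (((rhoQ j₀).app BK).symm ≪≫ eω)
  exact ⟨_, j₀, inferInstance, hy, a, b, a, b, 0, hS, hS, ⟨(rho j₀).mapIso eu.symm ≪≫ rhoUnitIso j₀⟩⟩

end Groth.Agent.DualSch
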