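import Groth.Agent.DualSch.Main

/-!
# Evaluation for bounded complexes of injectives with coherent cohomology
-/

set_option linter.style.haveILetI false
set_option backward.isDefEq.respectTransparency false
set_option maxHeartbeats 1600000

universe u

open CategoryTheory CategoryTheory.Limits AlgebraicGeometry CategoryTheory.Pretriangulated

attribute [local instance] HasDerivedCategory.standard

noncomputable section

namespace Groth.Agent.DualSch

open Groth.Agent.KFlatLib

variable {X : Scheme.{u}}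

/-- Cohomology of a tensor product of complexes bounded above. -/
lemma isZero_homology_tensor_high {R : CochainComplex X.Modules ℤ} (hR : DCoh.IsKFlat R) (r : ℤ)
    (hRb : ∀ k, r < k → IsZero (R.homology k)) (C : CochainComplex X.Modules ℤ) (c : ℤ)
    (hC : ∀ k, c < k → IsZero (C.homology k)) (k : ℤ) (hk : r + c < k) :
    IsZero (((DCoh.tensorCx.obj R).obj C).homology k) := by
  haveI : R.IsLE r := by
    rw [CochainComplex.isLE_iff]
    exact fun i hi => (R.exactAt_iff_isZero_homology i).2 (hRb i hi)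
  haveI : C.IsLE c := by
    rw [CochainComplex.isLE_iff]
    exact fun i hi => (C.exactAt_iff_isZero_homology i).2 (hC i hi)
  obtain ⟨R', α, hα, hR', hR'k⟩ := exists_flat_rep R r
  obtain ⟨C', β, hβ, hC', hC'k⟩ := exists_flat_rep C c
  haveI := hα; haveI := hβ; haveI := hR'; haveI := hC'
  haveI : QuasiIso ((DCoh.tensorCx.obj R).map β) :=
    (kFlat_iff_isKFlat.2 hR).quasiIso_map' (tensorBiFlipIso X) β
  haveI : QuasiIso ((DCoh.tensorCx.map α).app C') :=
    (kFlat_iff_isKFlat.2 hC'k).quasiIso_map α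
  haveI := isIso_Q_map ((DCoh.tensorCx.obj R).map β) inferInstance
  haveI := isIso_Q_map ((DCoh.tensorCx.map α).app C') inferInstance
  refine isZero_homology_of_Q_iso ((asIso (DerivedCategory.Q.map ((DCoh.tensorCx.obj R).map β))).symm ≪≫
    (asIso (DerivedCategory.Q.map ((DCoh.tensorCx.map α).app C'))).symm) k ?_
  refine ShortComplex.isZero_homology_of_isZero_X₂ _ ((IsZero.iff_id_eq_zero _).2
    (HomologicalComplex.mapBifunctor.hom_ext (fun p q h => ?_)))
  change p + q = k at h
  refine IsZero.eq_of_src ?_ _ _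
  by_cases hp : r < p
  · exact Functor.map_isZero ((DCoh.tensorBi (X := X)).flip.obj (C'.X q)) (R'.isZero_of_isStrictlyLE r p hp)
  · exact Functor.map_isZero ((DCoh.tensorBi (X := X)).obj (R'.X p)) (C'.isZero_of_isStrictlyLE c q (by omega))

/-- The same on an open. -/
lemma isZero_homology_rCx_tensor {U : Scheme.{u}} (j : U ⟶ X) [IsOpenImmersion j]
    {R : CochainComplex X.Modules ℤ} (hR : DCoh.IsKFlat R) {r : ℤ}
    (hRb : ∀ k, r < k → IsZero (R.homology k)) (C : CochainComplex X.Modules ℤ) (c : ℤ)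
    (hC : ∀ k, c < k → IsZero (((rCx j).obj C).homology k)) (k : ℤ) (hk : r + c < k) :
    IsZero (((rCx j).obj ((DCoh.tensorCx.obj R).obj C)).homology k) :=
  (isZero_homology_tensor_high (isKFlat_restrict j hR) r
    (fun l hl => (Functor.map_isZero (Scheme.Modules.restrictFunctor j) (hRb l hl)).of_iso
      (((ShortComplex.homologyFunctorIso (Scheme.Modules.restrictFunctor j)).app (R.sc l))))
    ((rCx j).obj C) c hC k hk).of_iso
    ((HomologicalComplex.homologyFunctor U.Modules (ComplexShape.up ℤ) k).mapIso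
      (totalMapIso (restrictTensorBiIso j) R C)).symm

variable [∀ (R : CommRingCat.{u}), PreservesFiniteLimits (tilde.functor R)]

/-- Evaluation is a quasi-isomorphism on pseudo-coherent complexes, into bounded complexes of injectives. -/
theorem quasiIso_bidualMap_bounded (BK BK' : CochainComplex X.Modules ℤ) [BK.IsKInjective]
    [∀ n, Injective (BK.X n)] [BK'.IsKInjective] [∀ n, Injective (BK'.X n)] (a b a' b' r : ℤ)
    [BK.IsStrictlyGE a] [BK.IsStrictlyLE b] [BK'.IsStrictlyGE a'] [BK'.IsStrictlyLE b']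
    (hRb : ∀ k, r < k → IsZero ((endR BK BK').homology k))
    (P : CochainComplex X.Modules ℤ) (hP : ∀ m, LocPC m (DerivedCategory.Q.obj P)) :
    QuasiIso (bidualMap BK BK' P) := by
  refine ⟨fun i => ?_⟩
  rw [quasiIsoAt_iff_isIso_homologyMap]
  refine isIso_of_stalk _ fun x => ?_
  let m : ℤ := i - 1 - (b' - a).natAbs - r.natAbs
  obtain ⟨V, jV, _, ⟨v, hv⟩, E, α, hE, hα⟩ := hP m x
  obtain ⟨W, hvW, hW⟩ := exists_free_nhd_sp hE v
  let j := W.ι ≫ jV
  have hx : x ∈ Set.range j.base := ⟨⟨v, hvW⟩, by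
    simp only [j, Scheme.Hom.comp_apply]
    exact hv⟩
  let S : InjModel ((rCx j).obj BK) a b :=
    InjModel.restrict (B := BK) { J := BK, e := Iso.refl _, inj := inferInstance, ge := inferInstance, le := inferInstance } j
  let S' : InjModel ((rCx j).obj BK') a' b' :=
    InjModel.restrict (B := BK') { J := BK', e := Iso.refl _, inj := inferInstance, ge := inferInstance, le := inferInstance } j
  obtain ⟨B₁, s, hB₁, hs⟩ := exists_kInjective_res ((rCx j).obj P)
  haveI := hB₁
  haveI := hs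
  haveI := isIso_Q_map s hs
  let P₁ := (rCx W.ι).obj E
  let eK : (rho W.ι).obj ((rho jV).obj (DerivedCategory.Q.obj P)) ≅ DerivedCategory.Q.obj B₁ :=
    rhoComp W.ι jV j rfl _ ≪≫ (rhoQ j).app P ≪≫ asIso (DerivedCategory.Q.map s)
  obtain ⟨φ₀, hφ₀⟩ := exists_Q_map (((rhoQ W.ι).app E).inv ≫ (rho W.ι).map α ≫ eK.hom)
  have hpc₀ : IsPcMap m (DerivedCategory.Q.map φ₀) :=
    hφ₀ ▸ (IsPcMap.map_exact (Scheme.Modules.restrictFunctor W.ι) hα).comp_iso _ _
  let g₂ := (lshCx j).map φ₀
  have hpc₂ : IsPcMap m ((rho j).map (DerivedCategory.Q.map g₂)) := by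
    haveI : ∀ C, IsIso ((lshCxAdj j).unit.app C) := fun C =>
      haveI : ∀ q, IsIso (((lshCxAdj j).unit.app C).f q) := fun q =>
        inferInstanceAs (IsIso ((lshAdj j).unit.app _))
      HomologicalComplex.Hom.isIso_of_components _
    have e₁ : (lshCxAdj j).unit.app P₁ ≫ (rCx j).map g₂ = φ₀ ≫ (lshCxAdj j).unit.app B₁ :=
      ((lshCxAdj j).unit.naturality φ₀).symm
    have e₂ : (rho j).map (DerivedCategory.Q.map g₂) ≫ (rhoQ j).hom.app _ =
        (rhoQ j).hom.app _ ≫ DerivedCategory.Q.map ((rCx j).map g₂) := (rhoQ j).hom.naturality g₂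
    have e₃ : (rho j).map (DerivedCategory.Q.map g₂) =
        ((rhoQ j).hom.app _ ≫ DerivedCategory.Q.map (inv ((lshCxAdj j).unit.app P₁))) ≫
          DerivedCategory.Q.map φ₀ ≫
          (DerivedCategory.Q.map ((lshCxAdj j).unit.app B₁) ≫ (rhoQ j).inv.app _) := by
      have e₁' : (rCx j).map g₂ =
          inv ((lshCxAdj j).unit.app P₁) ≫ φ₀ ≫ (lshCxAdj j).unit.app B₁ := by
        rw [IsIso.eq_inv_comp]; exact e₁
      rw [← cancel_mono ((rhoQ j).hom.app _), e₂, e₁', Functor.map_comp, Functor.map_comp]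
      simp only [Category.assoc, Iso.inv_hom_id_app]
      erw [Category.comp_id]
    rw [e₃]
    exact hpc₀.comp_iso _ _
  have hC₂ : ∀ k, m ≤ k → IsZero (((rCx j).obj (CochainComplex.mappingCone g₂)).homology k) := fun k hk => by
    refine isZero_rCx_cone j g₂ k ?_ ?_
    · rcases eq_or_lt_of_le hk with h | h
      · subst h; exact hpc₂.2
      · haveI := hpc₂.1 k h; infer_instance
    · haveI := hpc₂.1 (k + 1) (by omega); infer_instance
  have hP₁ : ∀ k, ∃ q, Nonempty (P₁.X k ≅ FlatMod.freeMod W q) := hW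
  obtain ⟨c, d, hcd⟩ := hE.1
  have h4 : BidualIso BK BK' j (i - 1) (((lshCx j).obj P₁)⟦(1 : ℤ)⟧) := by
    have hq1 : QuasiIso ((rCx j).map (bidualMap BK BK' ((lshCx j).obj (P₁⟦(1 : ℤ)⟧)))) :=
      quasiIso_bidual_lsh BK BK' j (c - 1) ((d + 1 - c).toNat) _
        (fun k hk => Functor.map_isZero (Scheme.Modules.restrictFunctor W.ι) (hcd (k + 1) (by omega)))
        (fun k => hP₁ (k + 1))
    refine (bidualIso_iff_of_quasiIso BK BK' j (i - 1) (((lshCx j).commShiftIso (1 : ℤ)).hom.app P₁) ?_).1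
      ((quasiIsoAt_iff_isIso_homologyMap _ _).1 (hq1.quasiIsoAt _))
    haveI : IsIso ((rCx j).map (((lshCx j).commShiftIso (1 : ℤ)).hom.app P₁)) := inferInstance
    infer_instance
  have h3 : BidualIso BK BK' j i ((lshCx j).obj B₁) := by
    refine (bidualIso_iff_cone BK BK' j g₂ (fun q => ?_) i (fun k hk => ⟨?_, ?_⟩)).2 h4
    · obtain ⟨r, ⟨e⟩⟩ := hP₁ q
      exact isFlat_lsh j (IsFlat.of_iso e.symm (isFlat_freeMod r))
    · exact isZero_homology_rCx_tensor j (isKFlat_kRes _) hRb _ (m - 1) (fun l hl => hC₂ l (by omega)) k (by omega)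
    · exact isZero_double_high BK BK' j S S' _ m hC₂ k (by omega)
  have h1 : BidualIso BK BK' j i P :=
    (bidualIso_iff_of_quasiIso BK BK' j i ((lshCxAdj j).counit.app P)
      (haveI := isIso_rCx_map_lshCx_counit j P; inferInstance)).1
      ((bidualIso_iff_of_quasiIso BK BK' j i ((lshCx j).map s) (quasiIso_rCx_map_lshCx j s)).2 h3)
  obtain ⟨w, rfl⟩ := hx
  have hi : IsIso ((Scheme.Modules.restrictFunctor j).map
      (HomologicalComplex.homologyMap (bidualMap BK BK' P) i)) :=
    (NatIso.isIso_map_iff (ShortComplex.homologyFunctorIso (Scheme.Modules.restrictFunctor j))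
      ((HomologicalComplex.shortComplexFunctor X.Modules (ComplexShape.up ℤ) i).map (bidualMap BK BK' P))).1 h1
  have hb := ConcreteCategory.bijective_of_isIso ((DerSch.stalkFunctor W w).map
    ((Scheme.Modules.restrictFunctor j).map (HomologicalComplex.homologyMap (bidualMap BK BK' P) i)))
  exact (ConcreteCategory.isIso_iff_bijective _).2
    ⟨injective_stalk_of_restrict j _ w hb.1, surjective_stalk_of_restrict j _ w hb.2⟩

/-- `RHom(F, G) ⊗ E = RHom(RHom(E, F), G)`. -/
theorem nonempty_ltensor_RSheafHom_bidual [IsLocallyNoetherian X] (K L I : CochainComplex X.Modules ℤ)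
    [DCoh.HasLTensorCx K] [DCoh.HasRSheafHom K] [DCoh.HasLTensorCx L] [DCoh.HasRSheafHom L]
    (hK : DCoh.IsCohD (DerivedCategory.Q.obj K)) (bK : ℤ)
    (hKb : ∀ i, bK < i → IsZero (DCoh.HD (DerivedCategory.Q.obj K) i))
    [L.IsKInjective] [∀ n, Injective (L.X n)] [I.IsKInjective] [∀ n, Injective (I.X n)]
    (a b a' b' r : ℤ) [L.IsStrictlyGE a] [L.IsStrictlyLE b] [I.IsStrictlyGE a'] [I.IsStrictlyLE b']
    (hr : ∀ k, r < k → IsZero (DCoh.HD ((DCoh.RSheafHom L).obj (DerivedCategory.Q.obj I)) k))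
    (D : CochainComplex X.Modules ℤ) [DCoh.HasLTensorCx D] [DCoh.HasRSheafHom D]
    (hD : DerivedCategory.Q.obj D ≅ (DCoh.RSheafHom K).obj (DerivedCategory.Q.obj L)) :
    Nonempty ((DCoh.LTensorCx K).obj ((DCoh.RSheafHom L).obj (DerivedCategory.Q.obj I)) ≅
      (DCoh.RSheafHom D).obj (DerivedCategory.Q.obj I)) := by
  obtain ⟨eL⟩ := nonempty_RSheafHom_iso L I
  obtain ⟨eK⟩ := nonempty_RSheafHom_iso K L
  obtain ⟨eD⟩ := nonempty_RSheafHom_iso D I
  obtain ⟨eH⟩ := nonempty_iHom_iso_of_iso (hD ≪≫ eK) I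
  have hRb : ∀ k, r < k → IsZero ((endR L I).homology k) := fun k hk =>
    (hr k hk).of_iso (((DerivedCategory.homologyFunctorFactors _ k).app (endR L I)).symm ≪≫
      (DerivedCategory.homologyFunctor _ k).mapIso ((resQIso X).app _ ≪≫ eL.symm))
  haveI := isIso_Q_map _ (quasiIso_bidualMap_bounded L I a b a' b' r hRb K
    (fun m => locPC_of_coh (isCohD_isQCohD hK) (fun i _ => hK i) bK hKb))
  exact ⟨(DCoh.LTensorCx K).mapIso (eL ≪≫ ((resQIso X).app _).symm) ≪≫ ltensorCxIso K (isKFlat_kRes _) ≪≫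
    asIso (DerivedCategory.Q.map (bidualMap L I K)) ≪≫ eH.symm ≪≫ eD.symm⟩

end Groth.Agent.DualSch
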