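import Groth.Agent.DualSch.Main
import Groth.Agent.DualTwist.InvertibleGorenstein
import Groth.Agent.S12440

/-!
# `RSheafHom` of two dualizing complexes is invertible
-/

set_option linter.style.haveILetI false
set_option backward.isDefEq.respectTransparency false
set_option maxHeartbeats 1600000

universe u

open CategoryTheory CategoryTheory.Limits AlgebraicGeometry TensorProduct

attribute [local instance] HasDerivedCategory.standard

noncomputable section

namespace Groth.Agent.DualSch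

open Groth.Agent Groth.Agent.KFlatLib

/-- Near a prime, `RHom` of two dualizing complexes is a shift of the ring. -/
theorem exists_away_RHom {A : Type u} [CommRing A] [DTen.HasLTen A] [DTen.HasRHom A] {ω ω' : Dual.D A}
    (hω : Dual.IsDualizing A ω) (hω' : Dual.IsDualizing A ω') (p : PrimeSpectrum A) :
    ∃ (g : A) (_ : g ∉ p.asIdeal) (n : ℤ), ∀ [DTen.HasLBase (algebraMap A (Localization.Away g))],
      Nonempty ((DTen.LBase (algebraMap A (Localization.Away g))).obj ((DTen.RHomR A ω).obj ω') ≅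
        (Dual.inD (Localization.Away g) (Localization.Away g))⟦n⟧) := by
  haveI := hω.isNoetherianRing
  obtain ⟨a, b, -, hGE, hLE⟩ := exists_bounds_of_isDualizing hω
  obtain ⟨a', b', hab', hGE', -⟩ := exists_bounds_of_isDualizing hω'
  haveI := hGE
  haveI := hLE
  haveI := hGE'
  let P := (DTen.RHomR A ω).obj ω'
  haveI hPLE : P.IsLE (b' - a) := KFlatLib.isLE_RHomR ω ω' a a' b' hab'
  haveI hPGE : P.IsGE (a' - b) := KFlatLib.isGE_RHomR ω ω' b a'
  have hfin : ∀ i, Module.Finite A (Dual.HD A P i) := fun i =>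
    KFlatLib.finite_hd_RHom_of_finite_hd hω.finite_cohomology hω'.finite_cohomology ⟨a', b', hab'⟩ i
  obtain ⟨s, hs⟩ := S12440.exists_localized_hom hω hω' p
  have hloc : ∀ i : ℤ, Nonempty (LocalizedModule p.asIdeal.primeCompl (Dual.HD A P i) ≃ₗ[Localization.AtPrime p.asIdeal]
      Localization.AtPrime p.asIdeal ⊗[A] (ω ⟶ ω'⟦i⟧)) := fun i => by
    obtain ⟨e⟩ := KFlatLib.exists_hdRHomShiftLEquiv ω ω' i
    exact ⟨(LocalizedModule.equivTensorProduct p.asIdeal.primeCompl (Dual.HD A P i)).trans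
      (TensorProduct.AlgebraTensorModule.congr (LinearEquiv.refl (Localization.AtPrime p.asIdeal)
        (Localization.AtPrime p.asIdeal)) e)⟩
  have h0 : ∀ i, i ≠ s → Subsingleton (LocalizedModule p.asIdeal.primeCompl (Dual.HD A P i)) := fun i hi => by
    haveI := (hs i).1 hi
    exact (hloc i).some.injective.subsingleton
  haveI := hfin s
  obtain ⟨x, hx⟩ := S1786.exists_bijective_of_stalk p.asIdeal _
    (((hloc s).some).trans ((hs s).2 rfl).some).symm
  have hb : ∀ i : ℤ, (i < a' - b ∨ b' - a < i) → Subsingleton (Dual.HD A P i) := fun i hi => by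
    refine ModuleCat.subsingleton_of_isZero ?_
    rcases hi with hi | hi
    · exact DerivedCategory.isZero_of_isGE P (a' - b) i hi
    · exact DerivedCategory.isZero_of_isLE P (b' - a) i hi
  obtain ⟨f, hf, hiso⟩ := S1828.exists_spread P (a' - b) (b' - a) s hb hfin p.asIdeal h0 x hx
  exact ⟨f, hf, -s, fun {_} => hiso⟩

variable {X : Scheme.{u}} [∀ (R : CommRingCat.{u}), PreservesFiniteLimits (tilde.functor R)]

/-- `O[n]` as a complex in degree `-n`. -/
def shiftUnitIso (U : Scheme.{u}) (n : ℤ) :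
    (DCoh.inD U (Coh.structureModule U))⟦n⟧ ≅ DerivedCategory.Q.obj (unitShiftCx U (-n)) :=
  ((DerivedCategory.singleFunctors U.Modules).shiftIso n (-n) 0 (by omega)).app (Coh.structureModule U) ≪≫
    (DerivedCategory.singleFunctorIsoCompQ U.Modules (-n)).app (Coh.structureModule U)

variable [∀ (U : Scheme.{u}) (j : U ⟶ X) [IsOpenImmersion j], PreservesFiniteLimits (Scheme.Modules.restrictFunctor j)]

/-- Local models for two dualizing complexes. -/
theorem exists_models (BK BK' : CochainComplex X.Modules ℤ) [BK.IsKInjective] [∀ n, Injective (BK.X n)]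
    [BK'.IsKInjective] [∀ n, Injective (BK'.X n)]
    (hK : Dual2.IsDualizingSch X (DerivedCategory.Q.obj BK))
    (hK' : Dual2.IsDualizingSch X (DerivedCategory.Q.obj BK')) (x : X) :
    ∃ (U : Scheme.{u}) (j : U ⟶ X) (_ : IsOpenImmersion j), x ∈ Set.range j.base ∧
      ∃ (a b a' b' n : ℤ), Nonempty (InjModel ((rCx j).obj BK) a b) ∧
        Nonempty (InjModel ((rCx j).obj BK') a' b') ∧
        Nonempty ((rho j).obj (DerivedCategory.Q.obj ((iHom BK).obj BK')) ≅
          (DCoh.inD U (Coh.structureModule U))⟦n⟧) := by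
  obtain ⟨A, _, j₀, _, ⟨p, hp⟩, ω, hω, ⟨eω⟩⟩ := exists_dualizing_chart hK x
  obtain ⟨ω', hω', ⟨eω'⟩⟩ := hK' A j₀
  haveI := hω.isNoetherianRing
  haveI := hasLTen A
  haveI := hasRHom (A := A)
  let B := (rCx j₀).obj BK
  let B' := (rCx j₀).obj BK'
  haveI : B.IsKInjective := isKInjective_rCx j₀ BK
  haveI : ∀ n, Injective (B.X n) := injective_rCx j₀ BK
  haveI : B'.IsKInjective := isKInjective_rCx j₀ BK'
  haveI : ∀ n, Injective (B'.X n) := injective_rCx j₀ BK'
  let eB : DerivedCategory.Q.obj B ≅ (DCoh.tildeD (CommRingCat.of A)).obj ω := ((rhoQ j₀).app BK).symm ≪≫ eω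
  let eB' : DerivedCategory.Q.obj B' ≅ (DCoh.tildeD (CommRingCat.of A)).obj ω' :=
    ((rhoQ j₀).app BK').symm ≪≫ eω'
  obtain ⟨a, b, ⟨S⟩⟩ := exists_injModel (finiteInjDim_of_isDualizing hω) B eB
  obtain ⟨a', b', ⟨S'⟩⟩ := exists_injModel (finiteInjDim_of_isDualizing hω') B' eB'
  haveI := hasLTensorCx B
  haveI := PushAmp.hasRSheafHom B
  let J₀ := DerivedCategory.Q.objPreimage ω
  let eJ : DRing.toD J₀ ≅ ω := DerivedCategory.Q.objObjPreimageIso ω
  haveI := H9Misc.DRingHomCx.hasRHomCx J₀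
  have hJ : ∀ i, Module.Finite A (Dual.HD A (DRing.toD J₀) i) := fun i => by
    haveI := hω.finite_cohomology i
    exact Module.Finite.equiv
      ((DerivedCategory.homologyFunctor (ModuleCat.{u} A) i).mapIso eJ).toLinearEquiv.symm
  obtain ⟨eT⟩ := nonempty_RSheafHom_tilde J₀ hJ ω' (finiteInjDim_of_isDualizing hω') B
    (eB ≪≫ (DCoh.tildeD _).mapIso eJ.symm)
  obtain ⟨r⟩ := RGammaI.nonempty_RHomR_iso_RHomCx J₀ ω'
  obtain ⟨e1⟩ := nonempty_rho_iHom j₀ BK BK'
  obtain ⟨e2⟩ := nonempty_RSheafHom_iso B B'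
  let P := (DTen.RHomR A ω).obj ω'
  let eP : (rho j₀).obj (DerivedCategory.Q.obj ((iHom BK).obj BK')) ≅ (DCoh.tildeD (CommRingCat.of A)).obj P :=
    e1 ≪≫ e2.symm ≪≫ (DCoh.RSheafHom B).mapIso eB' ≪≫ eT ≪≫
      (DCoh.tildeD _).mapIso (r.symm ≪≫ ((DTen.RHom A).flip.obj ω').mapIso eJ.op.symm)
  obtain ⟨g, hg, n, hiso⟩ := exists_away_RHom hω hω' p
  let σ := algebraMap A (Localization.Away g)
  haveI := hasLBase σ
  obtain ⟨eg⟩ := hiso
  haveI := H9Misc.DRingLBase.hasLBaseChange σ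
  let k := Spec.map (CommRingCat.ofHom σ)
  haveI : IsOpenImmersion k := inferInstance
  haveI := KFlatLib.hasLpull k
  let l := k ≫ j₀
  haveI : IsOpenImmersion l := inferInstance
  obtain ⟨t⟩ := nonempty_tildeD_lpull_iso σ
  obtain ⟨bc⟩ := nonempty_LBaseChange_iso σ
  obtain ⟨pk⟩ := RBC.nonempty_lpull_rho k
  obtain ⟨sh⟩ := DualTwist.nonempty_tildeD_shift (Localization.Away g) n
  have hxl : x ∈ Set.range l.base := by
    have hpq : p ∈ Set.range (PrimeSpectrum.comap σ) := by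
      rw [PrimeSpectrum.localization_away_comap_range (Localization.Away g) g]
      exact hg
    obtain ⟨q, hq⟩ := hpq
    exact ⟨q, (Scheme.Hom.comp_apply k j₀ q).trans ((congrArg (fun z => j₀ z) hq).trans hp)⟩
  refine ⟨_, l, inferInstance, hxl, a, b, a', b', n,
    ⟨(S.restrict k).of_rho (rhoCxIso k j₀ l rfl BK)⟩, ⟨(S'.restrict k).of_rho (rhoCxIso k j₀ l rfl BK')⟩,
    ⟨(rhoComp k j₀ l rfl _).symm ≪≫ (rho k).mapIso eP ≪≫ (pk.app _).symm ≪≫ (t.app P).symm ≪≫
      (DCoh.tildeD _).mapIso (bc.app P ≪≫ eg) ≪≫ sh⟩⟩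

omit [∀ (R : CommRingCat.{u}), PreservesFiniteLimits (tilde.functor R)]
  [∀ (U : Scheme.{u}) (j : U ⟶ X) [IsOpenImmersion j], PreservesFiniteLimits (Scheme.Modules.restrictFunctor j)] in
/-- `Q(R ⊗ B) = Q B ⊗^L R`. -/
def tensorSwapIso (B R : CochainComplex X.Modules ℤ) [DCoh.HasLTensorCx R] (hR : DCoh.IsKFlat R) :
    DerivedCategory.Q.obj ((DCoh.tensorCx.obj R).obj B) ≅ (DCoh.LTensorCx R).obj (DerivedCategory.Q.obj B) :=
  haveI := (flatCover X).quasiIso_ψ B
  haveI : QuasiIso ((DCoh.tensorCx.obj R).map ((flatCover X).ψ.app B)) :=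
    (kFlat_iff_isKFlat.2 hR).quasiIso_map' (tensorBiFlipIso X) ((flatCover X).ψ.app B)
  haveI := isIso_Q_map ((DCoh.tensorCx.obj R).map ((flatCover X).ψ.app B)) inferInstance
  (asIso (DerivedCategory.Q.map ((DCoh.tensorCx.obj R).map ((flatCover X).ψ.app B)))).symm ≪≫
    DerivedCategory.Q.mapIso (braidCx ((kRes X).obj B) R).symm ≪≫
    (ltensorCxIso R (isKFlat_kRes B)).symm ≪≫ (DCoh.LTensorCx R).mapIso ((resQIso X).app B)

variable [IsLocallyNoetherian X]

/-- Dualizing complexes differ by an invertible object. -/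
theorem exists_twist {K K' : DCoh.D X} (hK : Dual2.IsDualizingSch X K) (hK' : Dual2.IsDualizingSch X K') :
    ∃ (E : CochainComplex X.Modules ℤ) (_ : DCoh.HasLTensorCx E), Dual3.IsInvertibleD (DCoh.toD X E) ∧
      Nonempty (K' ≅ (DCoh.LTensorCx E).obj K) := by
  obtain ⟨BK, _, _, ⟨eK⟩⟩ := exists_kInjective_rep K
  obtain ⟨BK', _, _, ⟨eK'⟩⟩ := exists_kInjective_rep K'
  have hBK : Dual2.IsDualizingSch X (DerivedCategory.Q.obj BK) := fun A _ j _ => by
    obtain ⟨ω, hω, ⟨e⟩⟩ := hK A j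
    exact ⟨ω, hω, ⟨(DCoh.restrictD j).mapIso eK.symm ≪≫ e⟩⟩
  have hBK' : Dual2.IsDualizingSch X (DerivedCategory.Q.obj BK') := fun A _ j _ => by
    obtain ⟨ω, hω, ⟨e⟩⟩ := hK' A j
    exact ⟨ω, hω, ⟨(DCoh.restrictD j).mapIso eK'.symm ≪≫ e⟩⟩
  let E := endR BK BK'
  haveI hLE := hasLTensorCx E
  refine ⟨E, hLE, fun x => ?_, ?_⟩
  · obtain ⟨U, j, _, hx, a, b, a', b', n, -, -, ⟨e⟩⟩ := exists_models BK BK' hBK hBK' x
    obtain ⟨s⟩ := DualTwist.nonempty_rho_shift j.isoOpensRange.inv n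
    refine ⟨j.opensRange, n, hx, ⟨?_⟩⟩
    exact (rho j.opensRange.ι).mapIso ((resQIso X).app _) ≪≫
      (rhoComp j.isoOpensRange.inv j j.opensRange.ι (by simp) _).symm ≪≫
      (rho j.isoOpensRange.inv).mapIso e ≪≫ s
  · have hmod : HasLocalModels BK BK' := fun x => by
      obtain ⟨U, j, hj, hx, a, b, a', b', n, S, S', ⟨e⟩⟩ := exists_models BK BK' hBK hBK' x
      exact ⟨U, j, hj, hx, a, b, a', b', -n, S, S', ⟨e ≪≫ shiftUnitIso U n⟩⟩
    have hcoh : DCoh.IsCohD (DerivedCategory.Q.obj BK) := fun i => by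
      refine isCoh_of_local fun x => ?_
      obtain ⟨A, _, j, _, hx, ω, hω, ⟨eω⟩⟩ := exists_dualizing_chart hBK x
      haveI := hω.isNoetherianRing
      haveI : IsNoetherianRing (CommRingCat.of A) := hω.isNoetherianRing
      haveI : IsLocallyNoetherian (Spec (CommRingCat.of A)) := isLocallyNoetherian_of_isOpenImmersion j
      haveI := hω.finite_cohomology i
      exact ⟨_, j, inferInstance, hx, isCoh_of_iso (restrictHDIso j _ i)
        (isCoh_of_iso (((DerivedCategory.homologyFunctor _ i).mapIso eω ≪≫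
            (mapDCHomologyIso (tilde.functor (CommRingCat.of A)) i).app ω).symm)
          ((isCoh_tilde_iff (R := CommRingCat.of A) _).2 inferInstance))⟩
    obtain ⟨eu⟩ := nonempty_unit_iso_RSheafHom_self BK hBK
    haveI := isIso_Q_map _ (quasiIso_bidualMap_of_models BK BK' hmod BK hcoh)
    obtain ⟨eH⟩ := nonempty_iHom_iso_of_iso eu BK'
    obtain ⟨eO⟩ := nonempty_iHomUnitIso (X := X) 0
    let BKf := (kRes X).obj BK
    haveI := hasLTensorCx BK
    exact ⟨eK' ≪≫ (DerivedCategory.Q.mapIso (eO.app BK' ≪≫ (shiftFunctorZero _ ℤ).app BK')).symm ≪≫ eH ≪≫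
      (asIso (DerivedCategory.Q.map (bidualMap BK BK' BK))).symm ≪≫
      tensorSwapIso BK (endR BK BK') (isKFlat_kRes _) ≪≫ (DCoh.LTensorCx E).mapIso eK.symm⟩

end Groth.Agent.DualSch
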