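import Groth.Agent.KFlatLib.Scheme.RHomTilde
import Groth.Agent.KFlatLib.Scheme.LocalDevissage
import Groth.Agent.KFlatLib.Scheme.LocalQis
import Groth.Agent.KFlatLib.Scheme.PushLocal
import Groth.Agent.KFlatLib.Scheme.CoEvalPerfect
import Groth.Agent.H9Misc.DRingHomCx
import Groth.Prelude.Def_DualSch

/-!
# `RSheafHom(K, K) = O` for dualizing complexes on schemes
-/

set_option linter.style.haveILetI false
set_option backward.isDefEq.respectTransparency false
set_option maxHeartbeats 800000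

universe u

open CategoryTheory CategoryTheory.Limits AlgebraicGeometry MonoidalCategory

attribute [local instance] HasDerivedCategory.standard

noncomputable section

namespace Groth.Agent.DualSch

open Groth.Agent.KFlatLib

variable {X : Scheme.{u}}

/-- Isomorphisms in `D(X)` are local. -/
theorem isIso_of_local_rho {A : CochainComplex X.Modules ℤ} {M : DCoh.D X}
    (u : DerivedCategory.Q.obj A ⟶ M)
    (h : ∀ x : X, ∃ (U : Scheme.{u}) (j : U ⟶ X) (_ : IsOpenImmersion j),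
      x ∈ Set.range j.base ∧ IsIso ((rho j).map u)) : IsIso u := by
  obtain ⟨I, hI, -, ⟨eI⟩⟩ := exists_kInjective_rep M
  haveI := hI
  obtain ⟨a, ha⟩ := exists_Q_map (u ≫ eI.hom)
  haveI := isIso_Q_map a (quasiIso_of_local a fun x => by
    obtain ⟨U, j, hj, hx, hu⟩ := h x
    refine ⟨U, j, hj, hx, (DerivedCategory.isIso_Q_map_iff_quasiIso _ _).1 ?_⟩
    haveI := hu
    refine (NatIso.isIso_map_iff (rhoQ j) a).1 ?_
    change IsIso ((rho j).map (DerivedCategory.Q.map a))
    rw [ha, Functor.map_comp]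
    infer_instance)
  haveI : IsIso (u ≫ eI.hom) := by rw [← ha]; infer_instance
  exact IsIso.of_isIso_comp_right u eI.hom

/-- The structure module in degree zero. -/
abbrev unitCx (X : Scheme.{u}) : CochainComplex X.Modules ℤ :=
  (HomologicalComplex.single X.Modules (ComplexShape.up ℤ) 0).obj (Coh.structureModule X)

lemma isKFlat_unitCx (X : Scheme.{u}) : DCoh.IsKFlat (unitCx X) :=
  isKFlat_of_vanishesOutside (a := 0) (b := 0)
    (fun i hi => HomologicalComplex.isZero_single_obj_X _ _ _ _ (by omega))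
    (fun i => isFlat_single 0 (IsFlat.of_iso (coproductUniqueIso (fun _ : Fin 1 => Coh.structureModule X))
      (isFlat_freeMod 1)) i)

/-- `O ⊗ E = E`. -/
def unitTensorCxIso (E : CochainComplex X.Modules ℤ) : (DCoh.tensorCx.obj (unitCx X)).obj E ≅ E :=
  (braidCx E (unitCx X)).symm ≪≫
    (Inner.tensorUnitShiftIso (DCoh.tensorBi (X := X)) (Coh.structureModule X) (tensorStructureIso X) 0).app E ≪≫
    (shiftFunctorZero' (CochainComplex X.Modules ℤ) (-0) (by simp)).app E

/-- `O ⊗^L E = E`. -/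
def unitLTensorIso (E : CochainComplex X.Modules ℤ) [DCoh.HasLTensorCx E] :
    (DCoh.LTensorCx E).obj (DCoh.toD X (unitCx X)) ≅ DCoh.toD X E :=
  ltensorCxIso E (isKFlat_unitCx X) ≪≫ DerivedCategory.Q.mapIso (unitTensorCxIso E)

/-- Restriction commutes with `- ⊗^L E`. -/
theorem nonempty_rho_LTensorCx {U : Scheme.{u}} (j : U ⟶ X) [IsOpenImmersion j]
    (E : CochainComplex X.Modules ℤ) [DCoh.HasLTensorCx E] [DCoh.HasLTensorCx ((rCx j).obj E)] :
    Nonempty (Functor.comp (D := DCoh.D X) (E := DCoh.D U) (DCoh.LTensorCx E) (rho j) ≅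
      Functor.comp (D := DCoh.D U) (E := DCoh.D U) (rho j) (DCoh.LTensorCx ((rCx j).obj E))) := by
  let W := HomologicalComplex.quasiIso X.Modules (ComplexShape.up ℤ)
  let P := kRes X
  let G : DCoh.D X ⥤ DCoh.D X := DCoh.LTensorCx E
  let GU : DCoh.D U ⥤ DCoh.D U := DCoh.LTensorCx ((rCx j).obj E)
  let res : P ⋙ DerivedCategory.Q ≅ (DerivedCategory.Q : _ ⥤ DCoh.D X) := resQIso X
  let c := (DCoh.tensorCxQ E).totalLeftDerivedCounit DerivedCategory.Q (qisX X)
  haveI : ∀ M, IsIso ((Functor.whiskerLeft P c).app M) := fun M =>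
    isIso_LTensorCx_counit E (isKFlat_kRes M)
  haveI := NatIso.isIso_of_isIso_app (Functor.whiskerLeft P c)
  let cU := (DCoh.tensorCxQ ((rCx j).obj E)).totalLeftDerivedCounit DerivedCategory.Q (qisX U)
  haveI : ∀ M, IsIso ((Functor.whiskerLeft (P ⋙ rCx j) cU).app M) := fun M =>
    isIso_LTensorCx_counit ((rCx j).obj E) (isKFlat_restrict j (isKFlat_kRes M))
  haveI := NatIso.isIso_of_isIso_app (Functor.whiskerLeft (P ⋙ rCx j) cU)
  let θ : rCx j ⋙ DCoh.tensorCx.flip.obj ((rCx j).obj E) ≅ DCoh.tensorCx.flip.obj E ⋙ rCx j :=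
    totalMapNatIso (restrictTensorBiIso j) E
  let e₁ : DerivedCategory.Q ⋙ G ⋙ rho j ≅ (P ⋙ DCoh.tensorCx.flip.obj E ⋙ rCx j) ⋙ DerivedCategory.Q :=
    (Functor.associator _ _ _).symm ≪≫
      Functor.isoWhiskerRight (Functor.isoWhiskerRight res.symm G ≪≫ Functor.associator _ _ _ ≪≫
        asIso (Functor.whiskerLeft P c)) (rho j) ≪≫
      Functor.associator _ _ _ ≪≫ Functor.isoWhiskerLeft P (Functor.associator _ _ _ ≪≫
        Functor.isoWhiskerLeft _ (rhoQ j) ≪≫ (Functor.associator _ _ _).symm) ≪≫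
      (Functor.associator _ _ _).symm
  let e₂ : DerivedCategory.Q ⋙ rho j ⋙ GU ≅ (P ⋙ rCx j) ⋙ DCoh.tensorCxQ ((rCx j).obj E) :=
    Functor.isoWhiskerRight res.symm _ ≪≫ Functor.associator _ _ _ ≪≫
      Functor.isoWhiskerLeft P ((Functor.associator _ _ _).symm ≪≫
        Functor.isoWhiskerRight (rhoQ j) _ ≪≫ Functor.associator _ _ _) ≪≫
      (Functor.associator _ _ _).symm ≪≫ asIso (Functor.whiskerLeft (P ⋙ rCx j) cU)
  letI : Localization.Lifting DerivedCategory.Q W (DerivedCategory.Q ⋙ G ⋙ rho j) (G ⋙ rho j) := ⟨Iso.refl _⟩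
  letI : Localization.Lifting DerivedCategory.Q W (DerivedCategory.Q ⋙ rho j ⋙ GU) (rho j ⋙ GU) := ⟨Iso.refl _⟩
  exact ⟨Localization.liftNatIso DerivedCategory.Q W _ _ _ _
    (e₁ ≪≫ Functor.associator _ _ _ ≪≫ Functor.isoWhiskerLeft P (Functor.isoWhiskerRight θ.symm _) ≪≫
      Functor.isoWhiskerLeft P (Functor.associator _ _ _) ≪≫ (Functor.associator _ _ _).symm ≪≫ e₂.symm)⟩

/-- The restriction of the structure module in degree zero. -/
def rhoUnitIso {U : Scheme.{u}} (j : U ⟶ X) [IsOpenImmersion j] :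
    (rho j).obj (DCoh.toD X (unitCx X)) ≅ DCoh.toD U (unitCx U) :=
  (rhoQ j).app _ ≪≫ DerivedCategory.Q.mapIso
    ((HomologicalComplex.singleMapHomologicalComplex (Scheme.Modules.restrictFunctor j) _ 0).app _ ≪≫
      (HomologicalComplex.single _ _ 0).mapIso (restrictStructureIso j))

variable [∀ (U : Scheme.{u}) (j : U ⟶ X) [IsOpenImmersion j], PreservesFiniteLimits (Scheme.Modules.restrictFunctor j)]
  [∀ (R : CommRingCat.{u}), PreservesFiniteLimits (tilde.functor R)]

/-- An affine chart on which a dualizing complex is tilde of a dualizing complex. -/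
lemma exists_dualizing_chart {K : DCoh.D X} (hK : Dual2.IsDualizingSch X K) (x : X) :
    ∃ (A : Type u) (_ : CommRing A) (j : Spec (CommRingCat.of A) ⟶ X) (_ : IsOpenImmersion j),
      x ∈ Set.range j.base ∧ ∃ ω : Dual.D A, Dual.IsDualizing A ω ∧
        Nonempty ((rho j).obj K ≅ (DCoh.tildeD (CommRingCat.of A)).obj ω) := by
  obtain ⟨_, ⟨V, hV, rfl⟩, hxV, -⟩ := X.isBasis_affineOpens.exists_subset_of_mem_open
    (Set.mem_univ x) isOpen_univ
  let j : Spec (CommRingCat.of Γ(X, V)) ⟶ X := IsAffineOpen.fromSpec hV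
  haveI : IsOpenImmersion j := inferInstanceAs (IsOpenImmersion (IsAffineOpen.fromSpec hV))
  obtain ⟨ω, hω, e⟩ := hK Γ(X, V) j
  refine ⟨Γ(X, V), inferInstance, j, inferInstance, ?_, ω, hω, e⟩
  rw [show Set.range j.base = _ from IsAffineOpen.range_fromSpec hV]
  exact hxV

omit [∀ (U : Scheme.{u}) (j : U ⟶ X) [IsOpenImmersion j], PreservesFiniteLimits (Scheme.Modules.restrictFunctor j)] in
/-- The unit of `D(A)` goes to the structure module. -/
lemma nonempty_tildeD_unit (A : Type u) [CommRing A] :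
    Nonempty ((DCoh.tildeD (CommRingCat.of A)).obj (DTen.unit A) ≅
      DCoh.toD (Spec (CommRingCat.of A)) (unitCx (Spec (CommRingCat.of A)))) :=
  ⟨((tilde.functor (CommRingCat.of A)).mapDerivedCategoryFactors).app _ ≪≫
    DerivedCategory.Q.mapIso
      ((HomologicalComplex.singleMapHomologicalComplex (tilde.functor (CommRingCat.of A)) _ 0).app
          (ModuleCat.of A A) ≪≫
        (HomologicalComplex.single _ _ 0).mapIso tildeSelf)⟩

/-- An endomorphism of `A` in `D(A)` with a left inverse is invertible. -/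
lemma isIso_of_isSplitMono_unit {A : Type u} [CommRing A] (f : DTen.unit A ⟶ DTen.unit A) [IsSplitMono f] :
    IsIso f := by
  let S := DerivedCategory.singleFunctor (ModuleCat.{u} A) 0
  let e : S.obj (ModuleCat.of A A) ≅ DTen.unit A :=
    (DerivedCategory.singleFunctorIsoCompQ (ModuleCat.{u} A) 0).app (ModuleCat.of A A)
  obtain ⟨g, hg⟩ := S.map_surjective (e.hom ≫ f ≫ e.inv)
  haveI : IsSplitMono (S.map g) := by rw [hg]; infer_instance
  obtain ⟨r, hr⟩ := S.map_surjective (retraction (S.map g))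
  have hrg : g ≫ r = 𝟙 _ := S.map_injective (by rw [S.map_comp, hr, IsSplitMono.id, S.map_id])
  have hlin : ∀ (φ : ModuleCat.of A A ⟶ ModuleCat.of A A) (y : A), φ.hom y = y * φ.hom (1 : A) := fun φ y => by
    conv_lhs => rw [show y = y • (1 : A) by rw [smul_eq_mul, mul_one]]
    rw [map_smul, smul_eq_mul]
  have h1 : g.hom (1 : A) * r.hom (1 : A) = 1 := by
    rw [← hlin r]
    exact congrArg (fun φ : ModuleCat.of A A ⟶ ModuleCat.of A A => φ.hom (1 : A)) hrg
  haveI : IsIso g := ⟨r, hrg, by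
    refine ModuleCat.hom_ext (LinearMap.ext fun y => ?_)
    change g.hom (r.hom y) = y
    rw [hlin g, hlin r, mul_assoc, mul_comm (r.hom (1 : A)), h1, mul_one]⟩
  haveI : IsIso (e.hom ≫ f ≫ e.inv) := by rw [← hg]; infer_instance
  rw [show f = e.inv ≫ (e.hom ≫ f ≫ e.inv) ≫ e.hom by simp]
  infer_instance

omit [∀ (U : Scheme.{u}) (j : U ⟶ X) [IsOpenImmersion j], PreservesFiniteLimits (Scheme.Modules.restrictFunctor j)] in
/-- `RHom(ω~, ω~) = A~`. -/
theorem nonempty_RSheafHom_self_tilde {A : Type u} [CommRing A] {ω : Dual.D A} (hω : Dual.IsDualizing A ω)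
    (B : CochainComplex (Spec (CommRingCat.of A)).Modules ℤ)
    [DCoh.HasLTensorCx B] [DCoh.HasRSheafHom B]
    (eB : DerivedCategory.Q.obj B ≅ (DCoh.tildeD (CommRingCat.of A)).obj ω) :
    Nonempty ((DCoh.RSheafHom B).obj (DerivedCategory.Q.obj B) ≅
      (DCoh.tildeD (CommRingCat.of A)).obj (DTen.unit A)) := by
  haveI := hω.isNoetherianRing
  haveI := hasLTen A
  haveI := hasRHom (A := A)
  let J₀ := DerivedCategory.Q.objPreimage ω
  let eJ : DRing.toD J₀ ≅ ω := DerivedCategory.Q.objObjPreimageIso ω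
  haveI := H9Misc.DRingHomCx.hasRHomCx J₀
  let T := DCoh.tildeD (CommRingCat.of A)
  have hJ : ∀ i, Module.Finite A (Dual.HD A (DRing.toD J₀) i) := fun i => by
    haveI := hω.finite_cohomology i
    exact Module.Finite.equiv
      ((DerivedCategory.homologyFunctor (ModuleCat.{u} A) i).mapIso eJ).toLinearEquiv.symm
  obtain ⟨eT⟩ := nonempty_RSheafHom_tilde J₀ hJ ω (finiteInjDim_of_isDualizing hω) B
    (eB ≪≫ T.mapIso eJ.symm)
  obtain ⟨r⟩ := RGammaI.nonempty_RHomR_iso_RHomCx J₀ ω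
  obtain ⟨s⟩ := nonempty_RHom_self_iso hω
  exact ⟨(DCoh.RSheafHom B).mapIso eB ≪≫ eT ≪≫
    T.mapIso (r.symm ≪≫ ((DTen.RHom A).flip.obj ω).mapIso eJ.op.symm ≪≫ s)⟩

omit [∀ (U : Scheme.{u}) (j : U ⟶ X) [IsOpenImmersion j], PreservesFiniteLimits (Scheme.Modules.restrictFunctor j)] in
/-- A map `A~ ⟶ RHom(ω~, ω~)` is invertible if its transpose is a split mono after tensoring. -/
theorem isIso_of_isSplitMono_ltensor {A : Type u} [CommRing A] {ω : Dual.D A} (hω : Dual.IsDualizing A ω)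
    (B : CochainComplex (Spec (CommRingCat.of A)).Modules ℤ)
    [DCoh.HasLTensorCx B] [DCoh.HasRSheafHom B]
    (eB : DerivedCategory.Q.obj B ≅ (DCoh.tildeD (CommRingCat.of A)).obj ω)
    {O : DCoh.D (Spec (CommRingCat.of A))} (EO : O ≅ (DCoh.tildeD (CommRingCat.of A)).obj (DTen.unit A))
    (v : O ⟶ (DCoh.RSheafHom B).obj (DerivedCategory.Q.obj B))
    (hv : IsSplitMono ((DCoh.LTensorCx B).map v)) : IsIso v := by
  obtain ⟨eS⟩ := nonempty_RSheafHom_self_tilde hω B eB
  let T := DCoh.tildeD (CommRingCat.of A)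
  let GU : DCoh.D (Spec (CommRingCat.of A)) ⥤ DCoh.D (Spec (CommRingCat.of A)) := DCoh.LTensorCx B
  let RU : DCoh.D (Spec (CommRingCat.of A)) ⥤ DCoh.D (Spec (CommRingCat.of A)) := DCoh.RSheafHom B
  let adjU : GU ⊣ RU := DCoh.RSheafHomAdj B
  haveI : IsSplitMono (GU.map v) := hv
  let e : O ⟶ RU.obj (DerivedCategory.Q.obj B) := EO.hom ≫ eS.inv
  obtain ⟨g, hg⟩ : ∃ g : RU.obj (DerivedCategory.Q.obj B) ⟶ RU.obj (DerivedCategory.Q.obj B), v ≫ g = e := by
    refine ⟨adjU.homEquiv _ _ (retraction (GU.map v) ≫ (adjU.homEquiv _ _).symm e), ?_⟩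
    refine (adjU.homEquiv_naturality_left v _).symm.trans ?_
    rw [IsSplitMono.id_assoc]
    exact (adjU.homEquiv _ _).apply_symm_apply _
  let w : T.obj (DTen.unit A) ⟶ T.obj (DTen.unit A) := EO.inv ≫ v ≫ eS.hom
  have hw : w ≫ (eS.inv ≫ g ≫ eS.hom) = 𝟙 _ := by
    simp only [w, Category.assoc, Iso.hom_inv_id_assoc]
    rw [← Category.assoc v, hg]
    simp [e]
  obtain ⟨f, hf⟩ := (tildeD_map_bijective (R := CommRingCat.of A) (DTen.unit A) (DTen.unit A)).2 w
  obtain ⟨r', hr'⟩ := (tildeD_map_bijective (R := CommRingCat.of A) (DTen.unit A) (DTen.unit A)).2 (eS.inv ≫ g ≫ eS.hom)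
  haveI : IsSplitMono f := IsSplitMono.mk' ⟨r', (tildeD_map_bijective (R := CommRingCat.of A) _ _).1 (by
    change T.map (f ≫ r') = T.map (𝟙 _)
    rw [T.map_comp, hf, hr', hw, T.map_id])⟩
  haveI := isIso_of_isSplitMono_unit f
  haveI : IsIso w := by rw [← hf]; infer_instance
  haveI : IsIso (EO.hom ≫ w ≫ eS.inv) := inferInstance
  simpa [w] using this

set_option maxHeartbeats 2000000 in
/-- `RSheafHom(K, K) = O` for a dualizing complex. -/
theorem nonempty_unit_iso_RSheafHom_self (BK : CochainComplex X.Modules ℤ) [BK.IsKInjective]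
    [∀ n, Injective (BK.X n)] (hK : Dual2.IsDualizingSch X (DerivedCategory.Q.obj BK)) :
    Nonempty (DCoh.toD X (unitCx X) ≅ DerivedCategory.Q.obj ((iHom BK).obj BK)) := by
  haveI := hasLTensorCx BK
  haveI := PushAmp.hasRSheafHom BK
  let G : DCoh.D X ⥤ DCoh.D X := DCoh.LTensorCx BK
  let R : DCoh.D X ⥤ DCoh.D X := DCoh.RSheafHom BK
  let adj : G ⊣ R := DCoh.RSheafHomAdj BK
  let O := DCoh.toD X (unitCx X)
  let e0 : G.obj O ≅ DCoh.toD X BK := unitLTensorIso BK
  let u : O ⟶ R.obj (DCoh.toD X BK) := adj.homEquiv _ _ e0.hom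
  have hu : G.map u ≫ adj.counit.app (DCoh.toD X BK) = e0.hom :=
    (adj.homEquiv_counit _ _ u).symm.trans (Equiv.symm_apply_apply _ _)
  haveI : IsSplitMono (G.map u) :=
    IsSplitMono.mk' ⟨adj.counit.app _ ≫ e0.inv, by rw [← Category.assoc, hu]; exact e0.hom_inv_id⟩
  obtain ⟨eR⟩ := nonempty_RSheafHom_iso BK BK
  suffices IsIso u from ⟨asIso u ≪≫ eR⟩
  refine isIso_of_local_rho u fun x => ?_
  obtain ⟨A, _, j, _, hx, ω, hω, ⟨eω⟩⟩ := exists_dualizing_chart hK x
  refine ⟨_, j, inferInstance, hx, ?_⟩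
  let B := (rCx j).obj BK
  haveI : B.IsKInjective := isKInjective_rCx j BK
  haveI : ∀ n, Injective (B.X n) := injective_rCx j BK
  haveI := hasLTensorCx B
  haveI := PushAmp.hasRSheafHom B
  obtain ⟨e1⟩ := nonempty_rho_iHom j BK BK
  obtain ⟨e2⟩ := nonempty_RSheafHom_iso B B
  obtain ⟨tu⟩ := nonempty_tildeD_unit A
  let GU : DCoh.D (Spec (CommRingCat.of A)) ⥤ DCoh.D (Spec (CommRingCat.of A)) := DCoh.LTensorCx B
  let ER : (rho j).obj (R.obj (DCoh.toD X BK)) ≅ (DCoh.RSheafHom B).obj (DerivedCategory.Q.obj B) :=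
    (rho j).mapIso eR ≪≫ e1 ≪≫ e2.symm
  obtain ⟨cR⟩ := nonempty_rho_LTensorCx j BK
  have hn : cR.inv.app O ≫ (rho j).map (G.map u) ≫ cR.hom.app (R.obj (DCoh.toD X BK)) =
      GU.map ((rho j).map u) :=
    ((Category.assoc _ _ _).symm.trans (congrArg (· ≫ _) (cR.inv.naturality u).symm)).trans
      ((Category.assoc _ _ _).trans ((congrArg (_ ≫ ·) (Iso.inv_hom_id_app cR _)).trans (Category.comp_id _)))
  haveI : IsSplitMono (GU.map ((rho j).map u)) := by rw [← hn]; infer_instance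
  haveI := isIso_of_isSplitMono_ltensor hω B (((rhoQ j).app BK).symm ≪≫ eω) (rhoUnitIso j ≪≫ tu.symm)
    ((rho j).map u ≫ ER.hom) (by
      change IsSplitMono (GU.map ((rho j).map u ≫ ER.hom))
      rw [Functor.map_comp]
      infer_instance)
  exact IsIso.of_isIso_comp_right ((rho j).map u) ER.hom

end Groth.Agent.DualSch
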