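import Groth.Agent.DualSch.Bidual

/-!
# Values in coherent objects, and biduality, for dualizing complexes on schemes
-/

set_option linter.style.haveILetI false
set_option backward.isDefEq.respectTransparency false
set_option maxHeartbeats 1600000

universe u

open CategoryTheory CategoryTheory.Limits AlgebraicGeometry

attribute [local instance] HasDerivedCategory.standard

noncomputable section

namespace Groth.Agent.DualSch

open Groth.Agent.KFlatLib

variable {X : Scheme.{u}} [IsLocallyNoetherian X]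
  [∀ (R : CommRingCat.{u}), PreservesFiniteLimits (tilde.functor R)]

/-- Coherence of `RHom(C~, ω~)` for finite cohomology. -/
theorem isCohD_iHom_affine {A : Type u} [CommRing A] {ω : Dual.D A} (hω : Dual.IsDualizing A ω)
    (C B : CochainComplex (Spec (CommRingCat.of A)).Modules ℤ) [B.IsKInjective] [∀ n, Injective (B.X n)]
    (eB : DerivedCategory.Q.obj B ≅ (DCoh.tildeD (CommRingCat.of A)).obj ω)
    (hC : DCoh.IsCohD (DerivedCategory.Q.obj C)) :
    DCoh.IsCohD (DerivedCategory.Q.obj ((iHom C).obj B)) := by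
  haveI := hω.isNoetherianRing
  haveI : IsNoetherianRing (CommRingCat.of A) := hω.isNoetherianRing
  haveI : IsLocallyNoetherian (Spec (CommRingCat.of A)) := inferInstance
  haveI := hasLTen A
  haveI := hasRHom (A := A)
  haveI := hasLTensorCx C
  haveI := PushAmp.hasRSheafHom C
  let T := DCoh.tildeD (CommRingCat.of A)
  obtain ⟨M, ⟨eM⟩⟩ := exists_tildeD_iso (R := CommRingCat.of A) (isCohD_isQCohD hC)
  let M₀ := DerivedCategory.Q.objPreimage M
  let eM₀ : DRing.toD M₀ ≅ M := DerivedCategory.Q.objObjPreimageIso M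
  haveI := H9Misc.DRingHomCx.hasRHomCx M₀
  have hfin : ∀ i, Module.Finite A (Dual.HD A (DRing.toD M₀) i) := fun i => by
    haveI : Module.Finite A (Dual.HD A M i) := (isCoh_tilde_iff (R := CommRingCat.of A) _).1
      (isCoh_of_iso ((mapDCHomologyIso (tilde.functor (CommRingCat.of A)) i).app M)
        (isCoh_of_iso ((DerivedCategory.homologyFunctor _ i).mapIso eM).symm (hC i)))
    exact Module.Finite.equiv
      ((DerivedCategory.homologyFunctor (ModuleCat.{u} A) i).mapIso eM₀).toLinearEquiv.symm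
  obtain ⟨eT⟩ := nonempty_RSheafHom_tilde M₀ hfin ω (finiteInjDim_of_isDualizing hω) C
    (eM.symm ≪≫ T.mapIso eM₀.symm)
  obtain ⟨r⟩ := RGammaI.nonempty_RHomR_iso_RHomCx M₀ ω
  obtain ⟨eC⟩ := nonempty_RSheafHom_iso C B
  refine isCohD_of_iso (eT.symm ≪≫ (DCoh.RSheafHom C).mapIso eB.symm ≪≫ eC) fun i => ?_
  haveI := finite_hd_RHom_of_finite_hd hfin hω.finite_cohomology (finiteInjDim_of_isDualizing hω) i
  haveI : Module.Finite A (Dual.HD A ((DRing.RHomCx M₀).obj ω) i) := Module.Finite.equiv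
    ((DerivedCategory.homologyFunctor (ModuleCat.{u} A) i).mapIso r).toLinearEquiv
  exact isCoh_of_iso ((mapDCHomologyIso (tilde.functor (CommRingCat.of A)) i).app _).symm
    ((isCoh_tilde_iff (R := CommRingCat.of A) _).2 inferInstance)

variable [∀ (U : Scheme.{u}) (j : U ⟶ X) [IsOpenImmersion j], PreservesFiniteLimits (Scheme.Modules.restrictFunctor j)]

/-- `RHom(L, K)` has coherent cohomology. -/
theorem isCohD_iHom (BK : CochainComplex X.Modules ℤ) [BK.IsKInjective] [∀ n, Injective (BK.X n)]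
    (hK : Dual2.IsDualizingSch X (DerivedCategory.Q.obj BK)) (L : CochainComplex X.Modules ℤ)
    (hL : DCoh.IsCohD (DerivedCategory.Q.obj L)) :
    DCoh.IsCohD (DerivedCategory.Q.obj ((iHom L).obj BK)) := fun i => by
  refine isCoh_of_local fun x => ?_
  obtain ⟨A, _, j, _, hx, ω, hω, ⟨eω⟩⟩ := exists_dualizing_chart hK x
  haveI : IsLocallyNoetherian (Spec (CommRingCat.of A)) := isLocallyNoetherian_of_isOpenImmersion j
  haveI : ((rCx j).obj BK).IsKInjective := isKInjective_rCx j BK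
  haveI : ∀ n, Injective (((rCx j).obj BK).X n) := injective_rCx j BK
  obtain ⟨e⟩ := nonempty_rho_iHom j L BK
  exact ⟨_, j, inferInstance, hx, isCoh_of_iso (restrictHDIso j _ i)
    (isCohD_of_iso e.symm (isCohD_iHom_affine hω _ _ (((rhoQ j).app BK).symm ≪≫ eω)
      (isCohD_of_iso ((rhoQ j).app L) (isCohD_rho j hL))) i)⟩

/-- Biduality. -/
theorem biduality {K : DCoh.D X} (hK : Dual2.IsDualizingSch X K) (L : CochainComplex X.Modules ℤ)
    (hL : DCoh.IsCohD (DerivedCategory.Q.obj L)) [DCoh.HasLTensorCx L] [DCoh.HasRSheafHom L] :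
    DCoh.IsCohD ((DCoh.RSheafHom L).obj K) ∧
      ∀ (M : CochainComplex X.Modules ℤ) [DCoh.HasLTensorCx M] [DCoh.HasRSheafHom M],
        (DCoh.toD X M ≅ (DCoh.RSheafHom L).obj K) →
          Nonempty ((DCoh.RSheafHom M).obj K ≅ DCoh.toD X L) := by
  obtain ⟨BK, _, _, ⟨eK⟩⟩ := exists_kInjective_rep K
  have hBK : Dual2.IsDualizingSch X (DerivedCategory.Q.obj BK) := fun A _ j _ => by
    obtain ⟨ω, hω, ⟨e⟩⟩ := hK A j
    exact ⟨ω, hω, ⟨(DCoh.restrictD j).mapIso eK.symm ≪≫ e⟩⟩
  obtain ⟨eL⟩ := nonempty_RSheafHom_iso L BK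
  refine ⟨isCohD_of_iso ((DCoh.RSheafHom L).mapIso eK ≪≫ eL).symm (isCohD_iHom BK hBK L hL),
    fun M _ _ eM => ?_⟩
  obtain ⟨eM'⟩ := nonempty_RSheafHom_iso M BK
  obtain ⟨eH⟩ := nonempty_iHom_iso_of_iso (eM ≪≫ (DCoh.RSheafHom L).mapIso eK ≪≫ eL) BK
  obtain ⟨eu⟩ := nonempty_unit_iso_RSheafHom_self BK hBK
  haveI := isIso_Q_map _ (quasiIso_bidualMap BK hBK L hL)
  exact ⟨(DCoh.RSheafHom M).mapIso eK ≪≫ eM' ≪≫ eH ≪≫
    (asIso (DerivedCategory.Q.map (bidualMap BK BK L))).symm ≪≫ endTensorIso BK eu L⟩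

end Groth.Agent.DualSch
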