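import Groth.Agent.DualSch.Vanish
import Groth.Agent.KFlatLib.Scheme.CohD
import Groth.Agent.KFlatLib.Scheme.Tilde
import Groth.Agent.KFlatLib.Scheme.Pullback
import Groth.Agent.KFlatLib.Scheme.Exact
import Groth.Agent.KFlatLib.Ring.DualizingDescent
import Groth.Agent.PushAmp.TildeTor
import Groth.Agent.ExtShX.Basic
import Groth.Prelude.Def_DualSch
import Groth.Prelude.Def_DerSch

/-!
# Dualizing complexes are detected on stalks
-/

set_option linter.style.haveILetI false
set_option backward.isDefEq.respectTransparency false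
set_option maxHeartbeats 800000

universe u

open CategoryTheory CategoryTheory.Limits AlgebraicGeometry

attribute [local instance] HasDerivedCategory.standard

noncomputable section

namespace Groth.Agent.DualSch

open Groth.Agent.KFlatLib

/-- `M^~` only vanishes if `M` does. -/
lemma isZero_of_isZero_tilde {R : CommRingCat.{u}} {M : ModuleCat.{u} R}
    (h : IsZero ((tilde.functor R).obj M)) : IsZero M :=
  (IsZero.iff_id_eq_zero _).2 ((tilde.functor R).map_injective (IsZero.eq_of_src h _ _))

section Affine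

variable {A : Type u} [CommRing A]

/-- Maps from a module in degree `0` to a complex of injectives vanishing in degree `i`. -/
lemma subsingleton_hom_inD_shift [∀ (R : CommRingCat.{u}), PreservesFiniteLimits (tilde.functor R)]
    {J : CochainComplex (Spec (CommRingCat.of A)).Modules ℤ} [J.IsKInjective]
    {ω : Dual.D A} (e : DerivedCategory.Q.obj J ≅ (DCoh.tildeD (CommRingCat.of A)).obj ω)
    (M : Type u) [AddCommGroup M] [Module A M] (i : ℤ) (hi : IsZero (J.X i)) :
    Subsingleton (Dual.inD A M ⟶ ω⟦i⟧) := by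
  let T := DCoh.tildeD (CommRingCat.of A)
  let N := (tilde.functor (CommRingCat.of A)).obj (ModuleCat.of A M)
  let S := (HomologicalComplex.single (Spec (CommRingCat.of A)).Modules (ComplexShape.up ℤ) 0).obj N
  let e₁ : DerivedCategory.Q.obj S ≅ T.obj (Dual.inD A M) :=
    ((DerivedCategory.singleFunctorIsoCompQ (Spec (CommRingCat.of A)).Modules 0).app N).symm ≪≫
      (((tilde.functor (CommRingCat.of A)).mapDerivedCategorySingleFunctor 0).app (ModuleCat.of A M)).symm
  let e₂ : DerivedCategory.Q.obj (J⟦i⟧) ≅ T.obj (ω⟦i⟧) :=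
    (DerivedCategory.Q.commShiftIso i).app J ≪≫ (shiftFunctor _ i).mapIso e ≪≫
      ((T.commShiftIso i).app ω).symm
  haveI : Subsingleton (S ⟶ J⟦i⟧) := subsingleton_of_forall_eq 0 fun f => by
    refine HomologicalComplex.from_single_hom_ext (IsZero.eq_of_tgt ?_ _ _)
    change IsZero (J.X (0 + i))
    rwa [zero_add]
  haveI : Subsingleton (DerivedCategory.Q.obj S ⟶ DerivedCategory.Q.obj (J⟦i⟧)) := ⟨fun f g => by
    obtain ⟨f', rfl⟩ := exists_Q_map f
    obtain ⟨g', rfl⟩ := exists_Q_map g
    rw [Subsingleton.elim f' g']⟩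
  haveI : Subsingleton (T.obj (Dual.inD A M) ⟶ T.obj (ω⟦i⟧)) :=
    (e₁.homCongr e₂).symm.subsingleton
  exact (tildeD_map_bijective (R := CommRingCat.of A) (Dual.inD A M) (ω⟦i⟧)).1.subsingleton

end Affine

/-- The derived base change of `ω` to a stalk is the stalk of its tilde. -/
lemma nonempty_LBase_toStalkHom_iso [∀ (R : CommRingCat.{u}), PreservesFiniteLimits (tilde.functor R)]
    {R : CommRingCat.{u}} (x : Spec R) {ω : Dual.D R}
    {J : CochainComplex (Spec R).Modules ℤ} (e : DerivedCategory.Q.obj J ≅ (DCoh.tildeD R).obj ω) :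
    letI := (toStalkHom x).toAlgebra
    ∀ [DTen.HasLBase (algebraMap R ((Spec R).presheaf.stalk x))],
      Nonempty ((DTen.LBase (algebraMap R ((Spec R).presheaf.stalk x))).obj ω ≅
        DRing.toD (((DerSch.stalkFunctor (Spec R) x).mapHomologicalComplex (ComplexShape.up ℤ)).obj J)) := by
  letI := (toStalkHom x).toAlgebra
  haveI := PushAmp.isLocalization_toStalkHom x
  haveI : Module.Flat R ((Spec R).presheaf.stalk x) := IsLocalization.flat _ x.asIdeal.primeCompl
  intro _
  obtain ⟨hES, ⟨e₁⟩⟩ := exists_LBase_map_iso (B := ((Spec R).presheaf.stalk x : Type u)) ω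
  haveI := hES
  let E := ModuleCat.extendScalars.{u, u, u} (toStalkHom x)
  let F := DerSch.stalkFunctor (Spec R) x
  haveI : PreservesFiniteLimits E := hES
  let M₀ := DerivedCategory.Q.objPreimage ω
  let e₀ : DerivedCategory.Q.obj M₀ ≅ ω := DerivedCategory.Q.objObjPreimageIso ω
  let eT : DerivedCategory.Q.obj (((tilde.functor R).mapHomologicalComplex (ComplexShape.up ℤ)).obj M₀) ≅
      DerivedCategory.Q.obj J :=
    ((tilde.functor R).mapDerivedCategoryFactors.app M₀).symm ≪≫ (DCoh.tildeD R).mapIso e₀ ≪≫ e.symm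
  let c : ((E.mapHomologicalComplex (ComplexShape.up ℤ)).obj M₀) ≅ (F.mapHomologicalComplex (ComplexShape.up ℤ)).obj
      (((tilde.functor R).mapHomologicalComplex (ComplexShape.up ℤ)).obj M₀) :=
    HomologicalComplex.Hom.isoOfComponents (fun n => ((stalkTildeIso x).app (M₀.X n)).symm)
      (fun i j _ => ((stalkTildeIso x).inv.naturality (M₀.d i j)).symm)
  exact ⟨e₁ ≪≫ E.mapDerivedCategory.mapIso e₀.symm ≪≫ E.mapDerivedCategoryFactors.app M₀ ≪≫
    DerivedCategory.Q.mapIso c ≪≫ (F.mapDerivedCategoryFactors.app _).symm ≪≫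
    F.mapDerivedCategory.mapIso eT ≪≫ F.mapDerivedCategoryFactors.app J⟩

/-- The stalk map of the identity changes nothing. -/
def stalkCxOverIdIso (X : Scheme.{u}) (y : X) (I : CochainComplex X.Modules ℤ) :
    (DerSch.stalkCxOver (𝟙 X) y).obj I ≅
      ((DerSch.stalkFunctor X y).mapHomologicalComplex (ComplexShape.up ℤ)).obj I :=
  HomologicalComplex.Hom.isoOfComponents
    (fun n => (ModuleCat.restrictScalarsId'.{u} (Scheme.Hom.stalkMap (𝟙 X) y).hom (by
      rw [Scheme.Hom.stalkMap_id]; rfl)).app ((DerSch.stalkFunctor X y).obj (I.X n)))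
    (fun i j _ => rfl)

variable {X : Scheme.{u}}

/-- Dualizing stalks of `I` give dualizing stalks of its restriction to an affine chart. -/
lemma isDualizing_stalk_restrict [IsLocallyNoetherian X] {U : Scheme.{u}} (j : U ⟶ X) [IsOpenImmersion j] (x : U)
    [IsLocallyNoetherian U] (I : CochainComplex X.Modules ℤ)
    (h : Dual.IsDualizing (X.presheaf.stalk (j.base x))
      (DRing.toD (((DerSch.stalkFunctor X (j.base x)).mapHomologicalComplex (ComplexShape.up ℤ)).obj I))) :
    Dual.IsDualizing (U.presheaf.stalk x)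
      (DRing.toD (((DerSch.stalkFunctor U x).mapHomologicalComplex (ComplexShape.up ℤ)).obj ((rCx j).obj I))) := by
  letI := (j.stalkMap x).hom.toAlgebra
  have hbij : Function.Bijective (algebraMap (X.presheaf.stalk (j.base x)) (U.presheaf.stalk x)) :=
    ConcreteCategory.bijective_of_isIso (j.stalkMap x)
  haveI : Module.Flat (X.presheaf.stalk (j.base x)) (U.presheaf.stalk x) :=
    RingHom.flat_algebraMap_iff.1 (RingHom.Flat.of_bijective hbij)
  haveI := hasLBase (algebraMap (X.presheaf.stalk (j.base x)) (U.presheaf.stalk x))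
  obtain ⟨hES, ⟨e₁⟩⟩ := exists_LBase_map_iso (B := (U.presheaf.stalk x : Type u))
    (DRing.toD (((DerSch.stalkFunctor X (j.base x)).mapHomologicalComplex (ComplexShape.up ℤ)).obj I))
  haveI := hES
  let E := ModuleCat.extendScalars.{u, u, u} (j.stalkMap x).hom
  haveI : PreservesFiniteLimits E := hES
  let θ : Scheme.Modules.restrictFunctor j ⋙ DerSch.stalkFunctor U x ≅
      DerSch.stalkFunctor X (j.base x) ⋙ E :=
    Functor.isoWhiskerRight (Scheme.Modules.restrictFunctorIsoPullback j) _ ≪≫ stalkPullbackIso j x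
  let c : (E.mapHomologicalComplex (ComplexShape.up ℤ)).obj
      (((DerSch.stalkFunctor X (j.base x)).mapHomologicalComplex (ComplexShape.up ℤ)).obj I) ≅
      ((DerSch.stalkFunctor U x).mapHomologicalComplex (ComplexShape.up ℤ)).obj ((rCx j).obj I) :=
    HomologicalComplex.Hom.isoOfComponents (fun n => (θ.app (I.X n)).symm)
      (fun a b _ => (θ.inv.naturality (I.d a b)).symm)
  refine isDualizing_of_iso (e₁ ≪≫ E.mapDerivedCategoryFactors.app _ ≪≫ DerivedCategory.Q.mapIso c)
    (isDualizing_LBase h fun n _ => ⟨n.comap _, Ideal.map_comap_of_surjective _ hbij.2 n⟩)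

variable [∀ (U : Scheme.{u}) (j : U ⟶ X) [IsOpenImmersion j], PreservesFiniteLimits (Scheme.Modules.restrictFunctor j)]
  [∀ (R : CommRingCat.{u}), PreservesFiniteLimits (tilde.functor R)]

/-- A bounded complex of injectives with coherent cohomology and dualizing stalks is dualizing. -/
theorem isDualizingSch_of_stalks [IsLocallyNoetherian X] (I : CochainComplex X.Modules ℤ)
    (hinj : ∀ i : ℤ, Injective (I.X i)) (a b : ℤ) (hbdd : ∀ i : ℤ, (i < a ∨ b < i) → IsZero (I.X i))
    (hcoh : DCoh.IsCohD (DCoh.toD X I))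
    (hst : ∀ y : X, Dual.IsDualizing (X.presheaf.stalk y)
      (DRing.toD (((DerSch.stalkFunctor X y).mapHomologicalComplex (ComplexShape.up ℤ)).obj I))) :
    Dual2.IsDualizingSch X (DCoh.toD X I) := by
  intro A _ j hj
  haveI : IsLocallyNoetherian (Spec (CommRingCat.of A)) := isLocallyNoetherian_of_isOpenImmersion j
  haveI : IsNoetherianRing A := (isLocallyNoetherian_Spec (R := CommRingCat.of A)).1 inferInstance
  let J := (rCx j).obj I
  have hz : ∀ i, (i < a ∨ b < i) → IsZero (J.X i) := fun i hi =>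
    (Scheme.Modules.restrictFunctor j).map_isZero (hbdd i hi)
  haveI : J.IsStrictlyGE a := (CochainComplex.isStrictlyGE_iff _ _).2 fun i hi => hz i (Or.inl hi)
  haveI : ∀ i, Injective (J.X i) := fun i =>
    haveI := hinj i; ExtShX.isInjective_restrict j (I.X i)
  haveI : J.IsKInjective := CochainComplex.isKInjective_of_injective J a
  let eI : (DCoh.restrictD j).obj (DCoh.toD X I) ≅ DerivedCategory.Q.obj J :=
    (Scheme.Modules.restrictFunctor j).mapDerivedCategoryFactors.app I
  have hcJ : DCoh.IsCohD (DerivedCategory.Q.obj J) := isCohD_of_iso eI (isCohD_rho j hcoh)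
  obtain ⟨ω, ⟨eω⟩⟩ := exists_tildeD_iso (isCohD_isQCohD hcJ)
  refine ⟨ω, ?_, ⟨eI ≪≫ eω.symm⟩⟩
  let eH : ∀ i, (tilde.functor (CommRingCat.of A)).obj
      ((DerivedCategory.homologyFunctor (ModuleCat.{u} A) i).obj ω) ≅ DCoh.HD (DerivedCategory.Q.obj J) i :=
    fun i => ((mapDCHomologyIso (tilde.functor (CommRingCat.of A)) i).app ω).symm ≪≫
      (DerivedCategory.homologyFunctor _ i).mapIso eω
  have hfin : ∀ i : ℤ, Module.Finite A (Dual.HD A ω i) := fun i =>
    (isCoh_tilde_iff _).1 (isCoh_of_iso (eH i).symm (hcJ i))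
  have hzero : ∀ i, (i < a ∨ b < i) →
      IsZero ((DerivedCategory.homologyFunctor (ModuleCat.{u} A) i).obj ω) := fun i hi =>
    isZero_of_isZero_tilde (R := CommRingCat.of A)
      (((J.exactAt_iff_isZero_homology i).1 (HomologicalComplex.ExactAt.of_isZero (hz i hi))).of_iso
        (eH i ≪≫ (DerivedCategory.homologyFunctorFactors _ i).app J))
  haveI : ω.IsGE a := (DerivedCategory.isGE_iff ω a).2 fun i hi => hzero i (Or.inl hi)
  haveI : ω.IsLE b := (DerivedCategory.isLE_iff ω b).2 fun i hi => hzero i (Or.inr hi)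
  letI : ∀ p : Spec (CommRingCat.of A), Algebra A ((Spec (CommRingCat.of A)).presheaf.stalk p) :=
    fun p => (toStalkHom p).toAlgebra
  haveI hloc : ∀ p : Spec (CommRingCat.of A),
      IsLocalization.AtPrime ((Spec (CommRingCat.of A)).presheaf.stalk p) p.asIdeal :=
    fun p => PushAmp.isLocalization_toStalkHom p
  haveI : ∀ p : Spec (CommRingCat.of A), Module.Flat A ((Spec (CommRingCat.of A)).presheaf.stalk p) :=
    fun p => IsLocalization.flat _ p.asIdeal.primeCompl
  haveI : ∀ p : Spec (CommRingCat.of A),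
      DTen.HasLBase (algebraMap A ((Spec (CommRingCat.of A)).presheaf.stalk p)) := fun p => hasLBase _
  refine isDualizing_of_family (B := fun p : Spec (CommRingCat.of A) =>
    ((Spec (CommRingCat.of A)).presheaf.stalk p : Type u)) (fun m hm => ?_) a b hfin
    ⟨a, b, fun M _ _ i hi => subsingleton_hom_inD_shift eω.symm M i (hz i hi)⟩ fun p => ?_
  · refine ⟨⟨m, hm.isPrime⟩, ?_⟩
    haveI := hloc ⟨m, hm.isPrime⟩
    rw [IsLocalization.AtPrime.map_eq_maximalIdeal]
    exact (IsLocalRing.maximalIdeal.isMaximal _).ne_top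
  · obtain ⟨e⟩ := nonempty_LBase_toStalkHom_iso p eω.symm
    exact isDualizing_of_iso e.symm (isDualizing_stalk_restrict j p I (hst _))

end Groth.Agent.DualSch
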