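import Groth.Agent.DualSch.HomSelf
import Groth.Agent.KFlatLib.Scheme.CohD
import Mathlib.Algebra.Homology.HomologySequenceLemmas

/-!
# Vanishing for `iHom` into bounded complexes of injectives
-/

set_option linter.style.haveILetI false
set_option backward.isDefEq.respectTransparency false
set_option maxHeartbeats 800000

universe u

open CategoryTheory CategoryTheory.Limits AlgebraicGeometry CategoryTheory.Pretriangulated

attribute [local instance] HasDerivedCategory.standard

noncomputable section

namespace Groth.Agent.DualSch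

open Groth.Agent.KFlatLib

variable {X Y : Scheme.{u}}

/-- `iHom(D, B)` only depends on `B` up to isomorphism in `D(X)`. -/
lemma nonempty_iHom_iso_of_iso₂ (D : CochainComplex Y.Modules ℤ) {B J : CochainComplex Y.Modules ℤ}
    [B.IsKInjective] [∀ n, Injective (B.X n)] [J.IsKInjective] [∀ n, Injective (J.X n)]
    (e : DerivedCategory.Q.obj B ≅ DerivedCategory.Q.obj J) :
    Nonempty (DerivedCategory.Q.obj ((iHom D).obj B) ≅ DerivedCategory.Q.obj ((iHom D).obj J)) := by
  haveI := hasLTensorCx D
  haveI := PushAmp.hasRSheafHom D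
  obtain ⟨e₁⟩ := nonempty_RSheafHom_iso D B
  obtain ⟨e₂⟩ := nonempty_RSheafHom_iso D J
  exact ⟨e₁.symm ≪≫ (DCoh.RSheafHom D).mapIso e ≪≫ e₂⟩

/-- Transport of vanishing of homology along an isomorphism in `D(X)`. -/
lemma isZero_homology_of_Q_iso {B J : CochainComplex Y.Modules ℤ}
    (e : DerivedCategory.Q.obj B ≅ DerivedCategory.Q.obj J) (k : ℤ) (h : IsZero (J.homology k)) :
    IsZero (B.homology k) :=
  h.of_iso (((DerivedCategory.homologyFunctorFactors _ k).app B).symm ≪≫
    (DerivedCategory.homologyFunctor _ k).mapIso e ≪≫ (DerivedCategory.homologyFunctorFactors _ k).app J)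

/-- A complex quasi-isomorphic to a bounded complex of injectives. -/
structure InjModel (B : CochainComplex Y.Modules ℤ) (a b : ℤ) where
  /-- the model -/
  J : CochainComplex Y.Modules ℤ
  /-- the comparison -/
  e : DerivedCategory.Q.obj B ≅ DerivedCategory.Q.obj J
  inj : ∀ n, Injective (J.X n)
  ge : J.IsStrictlyGE a
  le : J.IsStrictlyLE b

variable {B : CochainComplex Y.Modules ℤ} {a b : ℤ} [B.IsKInjective] [∀ n, Injective (B.X n)]

/-- Low degrees. -/
lemma InjModel.isZero_low (S : InjModel B a b) (D : CochainComplex Y.Modules ℤ) (c : ℤ)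
    (hD : ∀ k, c < k → IsZero (D.homology k)) (k : ℤ) (hk : k + c < a) :
    IsZero (((iHom D).obj B).homology k) := by
  haveI := S.inj; haveI := S.ge
  haveI : S.J.IsKInjective := CochainComplex.isKInjective_of_injective S.J a
  obtain ⟨e⟩ := nonempty_iHom_iso_of_iso₂ D S.e
  refine isZero_homology_of_Q_iso e k ?_
  haveI : D.IsLE c := by
    rw [CochainComplex.isLE_iff]
    exact fun i hi => (D.exactAt_iff_isZero_homology i).2 (hD i hi)
  haveI := quasiIso_iHomMap (D.ιTruncLE c) S.J
  exact (isZero_homology_iHom (D.truncLE c) S.J c a k hk).of_iso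
    (asIso (HomologicalComplex.homologyMap ((iHomMap (D.ιTruncLE c)).app S.J) k))

/-- High degrees. -/
lemma InjModel.isZero_high (S : InjModel B a b) (D : CochainComplex Y.Modules ℤ) (c : ℤ)
    (hD : ∀ k, k < c → IsZero (D.homology k)) (k : ℤ) (hk : b < k + c) :
    IsZero (((iHom D).obj B).homology k) := by
  haveI := S.inj; haveI := S.le; haveI := S.ge
  haveI : S.J.IsKInjective := CochainComplex.isKInjective_of_injective S.J a
  obtain ⟨e⟩ := nonempty_iHom_iso_of_iso₂ D S.e
  refine isZero_homology_of_Q_iso e k ?_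
  haveI : D.IsGE c := by
    rw [CochainComplex.isGE_iff]
    exact fun i hi => (D.exactAt_iff_isZero_homology i).2 (hD i hi)
  haveI := quasiIso_iHomMap (D.πTruncGE c) S.J
  exact (isZero_homology_iHom_high (D.truncGE c) S.J c b k hk).of_iso
    (asIso (HomologicalComplex.homologyMap ((iHomMap (D.πTruncGE c)).app S.J) k)).symm

/-- The model restricted to an open. -/
def InjModel.restrict (S : InjModel B a b) {U : Scheme.{u}} (i : U ⟶ Y) [IsOpenImmersion i] :
    InjModel ((rCx i).obj B) a b where
  J := (rCx i).obj S.J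
  e := ((rhoQ i).app B).symm ≪≫ (rho i).mapIso S.e ≪≫ (rhoQ i).app S.J
  inj := haveI := S.inj; injective_rCx i S.J
  ge := haveI := S.ge; (CochainComplex.isStrictlyGE_iff _ _).2 fun n hn =>
    Functor.map_isZero (Scheme.Modules.restrictFunctor i) (S.J.isZero_of_isStrictlyGE a n hn)
  le := haveI := S.le; (CochainComplex.isStrictlyLE_iff _ _).2 fun n hn =>
    Functor.map_isZero (Scheme.Modules.restrictFunctor i) (S.J.isZero_of_isStrictlyLE b n hn)

/-- Change of the complex up to isomorphism in `D(X)`. -/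
def InjModel.of_rho (S : InjModel B a b) {B' : CochainComplex Y.Modules ℤ}
    (e : DerivedCategory.Q.obj B' ≅ DerivedCategory.Q.obj B) : InjModel B' a b where
  J := S.J
  e := e ≪≫ S.e
  inj := S.inj
  ge := S.ge
  le := S.le

section Double

variable (BK BK' : CochainComplex X.Modules ℤ) [BK.IsKInjective] [∀ n, Injective (BK.X n)]
  [BK'.IsKInjective] [∀ n, Injective (BK'.X n)]

/-- The restricted double dual. -/
lemma isZero_homology_rCx_double {U : Scheme.{u}} (j : U ⟶ X) [IsOpenImmersion j]
    (C : CochainComplex X.Modules ℤ) (k : ℤ)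
    (h : IsZero (((iHom ((iHom ((rCx j).obj C)).obj ((rCx j).obj BK))).obj ((rCx j).obj BK')).homology k)) :
    IsZero (((rCx j).obj ((iHom ((iHom C).obj BK)).obj BK')).homology k) := by
  haveI : ((rCx j).obj BK).IsKInjective := isKInjective_rCx j BK
  haveI : ∀ n, Injective (((rCx j).obj BK).X n) := injective_rCx j BK
  haveI : ((rCx j).obj BK').IsKInjective := isKInjective_rCx j BK'
  haveI : ∀ n, Injective (((rCx j).obj BK').X n) := injective_rCx j BK'
  obtain ⟨r₁⟩ := nonempty_iHomRestrictIso j ((iHom C).obj BK)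
  obtain ⟨r₂⟩ := nonempty_iHomRestrictIso j C
  obtain ⟨e⟩ := nonempty_iHom_iso_of_iso (DerivedCategory.Q.mapIso (r₂.app BK)) ((rCx j).obj BK')
  exact isZero_homology_of_Q_iso (DerivedCategory.Q.mapIso (r₁.app BK') ≪≫ e) k h

/-- The double dual of a complex in high degrees lives in high degrees. -/
lemma isZero_double_low {U : Scheme.{u}} (j : U ⟶ X) [IsOpenImmersion j] {a b a' b' : ℤ}
    (S : InjModel ((rCx j).obj BK) a b) (S' : InjModel ((rCx j).obj BK') a' b') (C : CochainComplex X.Modules ℤ) (n : ℤ)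
    (hC : ∀ k, k < n → IsZero (((rCx j).obj C).homology k)) (k : ℤ) (hk : k + (b - n) < a') :
    IsZero (((rCx j).obj ((iHom ((iHom C).obj BK)).obj BK')).homology k) := by
  haveI : ((rCx j).obj BK).IsKInjective := isKInjective_rCx j BK
  haveI : ∀ n, Injective (((rCx j).obj BK).X n) := injective_rCx j BK
  haveI : ((rCx j).obj BK').IsKInjective := isKInjective_rCx j BK'
  haveI : ∀ n, Injective (((rCx j).obj BK').X n) := injective_rCx j BK'
  exact isZero_homology_rCx_double BK BK' j C k (S'.isZero_low _ (b - n)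
    (fun l hl => S.isZero_high _ n hC l (by omega)) k hk)

/-- The double dual of a complex in low degrees lives in low degrees. -/
lemma isZero_double_high {U : Scheme.{u}} (j : U ⟶ X) [IsOpenImmersion j] {a b a' b' : ℤ}
    (S : InjModel ((rCx j).obj BK) a b) (S' : InjModel ((rCx j).obj BK') a' b') (C : CochainComplex X.Modules ℤ) (m : ℤ)
    (hC : ∀ k, m ≤ k → IsZero (((rCx j).obj C).homology k)) (k : ℤ) (hk : b' < k + (a - m + 1)) :
    IsZero (((rCx j).obj ((iHom ((iHom C).obj BK)).obj BK')).homology k) := by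
  haveI : ((rCx j).obj BK).IsKInjective := isKInjective_rCx j BK
  haveI : ∀ n, Injective (((rCx j).obj BK).X n) := injective_rCx j BK
  haveI : ((rCx j).obj BK').IsKInjective := isKInjective_rCx j BK'
  haveI : ∀ n, Injective (((rCx j).obj BK').X n) := injective_rCx j BK'
  exact isZero_homology_rCx_double BK BK' j C k (S'.isZero_high _ (a - m + 1)
    (fun l hl => S.isZero_low _ (m - 1) (fun p hp => hC p (by omega)) l (by omega)) k hk)

end Double

/-- Cohomology of a restricted cone. -/
lemma isZero_rCx_cone {U : Scheme.{u}} (j : U ⟶ X) [IsOpenImmersion j]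
    {F G : CochainComplex X.Modules ℤ} (g : F ⟶ G) (k : ℤ)
    (h₁ : Epi ((DerivedCategory.homologyFunctor U.Modules k).map ((rho j).map (DerivedCategory.Q.map g))))
    (h₂ : Mono ((DerivedCategory.homologyFunctor U.Modules (k + 1)).map
      ((rho j).map (DerivedCategory.Q.map g)))) :
    IsZero (((rCx j).obj (CochainComplex.mappingCone g)).homology k) := by
  let T := (rho j).mapTriangle.obj
    (DerivedCategory.Q.mapTriangle.obj (CochainComplex.mappingCone.triangle g))
  have hT : T ∈ distinguishedTriangles := (rho j).map_distinguished _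
    ((DerivedCategory.mem_distTriang_iff _).2 ⟨_, _, g, ⟨Iso.refl _⟩⟩)
  haveI : Epi ((DerivedCategory.homologyFunctor U.Modules k).map T.mor₁) := h₁
  haveI : Mono ((DerivedCategory.homologyFunctor U.Modules (k + 1)).map T.mor₁) := h₂
  refine IsZero.of_iso ?_ (((DerivedCategory.homologyFunctorFactors _ k).app _).symm ≪≫
    (DerivedCategory.homologyFunctor _ k).mapIso ((rhoQ j).app _).symm)
  exact (DerivedCategory.HomologySequence.exact₃ T hT k (k + 1) rfl).isZero_X₂
    ((DerivedCategory.HomologySequence.epi_homologyMap_mor₁_iff T hT k).1 inferInstance)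
    ((DerivedCategory.HomologySequence.mono_homologyMap_mor₁_iff T hT k (k + 1) rfl).1
      inferInstance)

/-- A morphism of short exact sequences whose middle terms are acyclic in two degrees. -/
lemma isIso_homologyMap_τ₁_iff {C : Type*} [Category C] [Abelian C]
    {S₁ S₂ : ShortComplex (CochainComplex C ℤ)} (φ : S₁ ⟶ S₂) (h₁ : S₁.ShortExact) (h₂ : S₂.ShortExact)
    (i : ℤ) (z₁ : IsZero (S₁.X₂.homology (i - 1))) (z₁' : IsZero (S₁.X₂.homology i))
    (z₂ : IsZero (S₂.X₂.homology (i - 1))) (z₂' : IsZero (S₂.X₂.homology i)) :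
    IsIso (HomologicalComplex.homologyMap φ.τ₁ i) ↔ IsIso (HomologicalComplex.homologyMap φ.τ₃ (i - 1)) := by
  have hr : (ComplexShape.up ℤ).Rel (i - 1) i := by simp
  haveI := h₁.isIso_δ (i - 1) i hr z₁ z₁'
  haveI := h₂.isIso_δ (i - 1) i hr z₂ z₂'
  have e := HomologicalComplex.HomologySequence.δ_naturality φ h₁ h₂ (i - 1) i hr
  refine ⟨fun h => ?_, fun h => ?_⟩
  · haveI : IsIso (HomologicalComplex.homologyMap φ.τ₃ (i - 1) ≫ h₂.δ (i - 1) i hr) := by
      rw [← e]; infer_instance
    exact IsIso.of_isIso_comp_right _ (h₂.δ (i - 1) i hr)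
  · haveI : IsIso (h₁.δ (i - 1) i hr ≫ HomologicalComplex.homologyMap φ.τ₁ i) := by
      rw [e]; infer_instance
    exact IsIso.of_isIso_comp_left (h₁.δ (i - 1) i hr) _

end Groth.Agent.DualSch
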